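import Mathlib
import Cfsg.Agent.H954.OutHeis_m3
import Cfsg.Agent.H704.S8.Defs_m3
import Cfsg.Agent.H621.SymDeg.Chars
import Cfsg.Agent.H321.Alt
import Cfsg.Agent.H715.Fpr.Row4_m3
import Cfsg.Prelude.Def_KGroupFacts
import Cfsg.Agent.PreUniqCo.LatCo
import Cfsg.Agent.H898.RowCo0
import Cfsg.Agent.BpSpor.CoTwoFive
import Cfsg.Agent.S0397
import Cfsg.Agent.H867.SporMI
import Cfsg.Agent.H468.RowConway
import Cfsg.Agent.H970.Sep.Co3Seven
import Cfsg.Agent.Schreier.CoTwoStab
import Cfsg.Agent.S2069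
import Cfsg.Agent.S2070
import Cfsg.Agent.S2071
import Cfsg.Agent.S2150
import Cfsg.Agent.H49.CoStab
import Cfsg.Agent.H380.AltSpec
import Cfsg.Agent.TypeM.FactsMcL
import Cfsg.Agent.H904.McLCent
import Cfsg.Agent.S2073
import Cfsg.Agent.H904.HSIso
import Cfsg.Agent.H57.TTHSOrder
import Cfsg.Agent.CpAutHSFive.Row
import Cfsg.Agent.H497.Stein.HSMc
import Cfsg.Agent.H455.NoNine
import Cfsg.Agent.H525.RO.CoTf
import Cfsg.Agent.H597.PsuDeg
import Cfsg.Agent.H792.Sp.ConwayFive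
import Cfsg.Agent.S2072
import Cfsg.Agent.H940.EngData
import Cfsg.Agent.FastGrp
import Cfsg.Agent.Prune
set_option linter.all false

section
prune_inst 0x7f00000000000000000000000000000000000000000000000000000000000000000000000000000000000000000000000000000000000000000000000000000000000000000000000000000000000000003fffffffffffffffffffffffffffbeffbdffffffff

-- part: H396/TwoCyc/Deg
section
set_option linter.all false
open scoped Cfsg.Agent.FastGrp

-- part: H396/TwoCyc/Orders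
section
/-!
# The orders of the permutations of at most ten points (helper396, TEAM TWOCYC, S3507)
-/

set_option autoImplicit false

namespace Cfsg.Agent.H396.TwoCyc

/-- the orders of the permutations of `m` points, `m ≤ 10` -/
def LS : ℕ → List ℕ
  | 0 => [1]
  | 1 => [1]
  | 2 => [1, 2]
  | 3 => [1, 2, 3]
  | 4 => [1, 2, 3, 4]
  | 5 => [1, 2, 3, 4, 5, 6]
  | 6 => [1, 2, 3, 4, 5, 6]
  | 7 => [1, 2, 3, 4, 5, 6, 7, 10, 12]
  | 8 => [1, 2, 3, 4, 5, 6, 7, 8, 10, 12, 15]
  | 9 => [1, 2, 3, 4, 5, 6, 7, 8, 9, 10, 12, 14, 15, 20]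
  | 10 => [1, 2, 3, 4, 5, 6, 7, 8, 9, 10, 12, 14, 15, 20, 21, 30]
  | _ => []

theorem LS_closed : ∀ m ≤ 10, ∀ a ≤ m, 1 ≤ a → ∀ x ∈ LS (m - a), Nat.lcm a x ∈ LS m := by
  decide +kernel

theorem one_mem_LS : ∀ m ≤ 10, 1 ∈ LS m := by decide +kernel

theorem lcm_mem (s : Multiset ℕ) : ∀ m ≤ 10, s.sum ≤ m → (∀ a ∈ s, 1 ≤ a) → s.lcm ∈ LS m := by
  induction s using Multiset.induction_on with
  | empty =>
    intro m hm _ _
    rw [Multiset.lcm_zero]
    exact one_mem_LS m hm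
  | cons a s ih =>
    intro m hm hs ha
    rw [Multiset.sum_cons] at hs
    rw [Multiset.lcm_cons]
    refine LS_closed m hm a (by omega) (ha a (Multiset.mem_cons_self a s)) _ ?_
    exact ih (m - a) (by omega) (by omega) (fun b hb => ha b (Multiset.mem_cons_of_mem hb))

/-- The orders of the permutations of at most ten points. -/
theorem orderOf_mem {m : ℕ} (hm : m ≤ 10) (σ : Equiv.Perm (Fin m)) : orderOf σ ∈ LS m := by
  rw [← Equiv.Perm.lcm_cycleType]
  refine lcm_mem _ m hm ?_ ?_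
  · have := Equiv.Perm.sum_cycleType_le σ
    rwa [Fintype.card_fin] at this
  · intro a ha
    exact (Nat.le_of_succ_le (Equiv.Perm.two_le_of_mem_cycleType ha))

/-- A permutation of prime order `p`, where `m < 2 p`, is a `p`-cycle. -/
theorem cycleType_eq {m p : ℕ} (hp : p.Prime) (hm : m < 2 * p) {σ : Equiv.Perm (Fin m)} (h : orderOf σ = p) :
    σ.cycleType = {p} := by
  obtain ⟨n, hn⟩ := Equiv.Perm.cycleType_prime_order (σ := σ) (by rw [h]; exact hp)
  have h1 := Equiv.Perm.sum_cycleType_le σ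
  rw [Fintype.card_fin, hn, Multiset.sum_replicate, smul_eq_mul, h] at h1
  have h2 : n = 0 := by
    by_contra h0
    have h3 : 2 * p ≤ (n + 1) * p := Nat.mul_le_mul_right p (by omega)
    omega
  rw [hn, h2, h]
  rfl

/-- The centralizer of a `p`-cycle on `p` or `p + 1` points. -/
theorem card_centralizer {m p : ℕ} (hp : p.Prime) (h1 : m ≤ p + 1) {σ : Equiv.Perm (Fin m)} (h : orderOf σ = p)
    (h3 : 3 ≤ p) : Nat.card (Subgroup.centralizer ({σ} : Set (Equiv.Perm (Fin m)))) = p := by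
  have h2 := cycleType_eq hp (by omega) h
  have hle : p ≤ m := by
    have h4 := Equiv.Perm.sum_cycleType_le σ
    rwa [Fintype.card_fin, h2, Multiset.sum_singleton] at h4
  rw [Equiv.Perm.nat_card_centralizer, h2, Fintype.card_fin, Multiset.sum_singleton, Multiset.prod_singleton]
  have h5 : (m - p).factorial = 1 := by
    have : m - p = 0 ∨ m - p = 1 := by omega
    rcases this with h | h <;> rw [h] <;> rfl
  rw [h5]
  simp

end Cfsg.Agent.H396.TwoCyc
end

-- part: H396/TwoCyc/Deg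
section
/-!
# TEAM TWOCYC: a lower bound for the degree, and the character degrees of `A₅, …, A₈` (helper396)

* `lower` : if the rank is at least `4` and `MD T δ`, then `|Ω| ≥ 3 δ + 1`;
* `md_of_sub` : `MD` from a simple subgroup;
* `md_five`, `md_six`, `md_seven`, `md_eight`.
-/

set_option autoImplicit false

namespace Cfsg.Agent.H396.TwoCyc

open MulAction Cfsg.Agent.H384.Cyc Cfsg.Agent.H482.TwoCyc
open Cfsg Cfsg.Agent.PermutationGroups.MultFree Cfsg.Agent.PermutationGroups.IrrSum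
  Cfsg.Agent.PermutationGroups.Subdegree
open Cfsg.Agent.Characters.Core (isCharacter_comp isIrr_isCharacter isCharacter_one classInner_isNat
  classInner_irr_self)
open Cfsg.Agent.H954.OutDeg (MD)

universe u v

/-- If the rank is at least `4`, the degree is larger than three times the least degree of a nonlinear character. -/
theorem lower {G : Type u} {Ω : Type v} [Group G] [MulAction G Ω] {T : Subgroup G} {g : G} (h : TC G Ω T g)
    (hcon : ¬ rk G Ω ≤ 3) {δ : ℕ} (hδ : MD ↥T δ) : 3 * δ + 1 ≤ Nat.card Ω := by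
  classical
  have := h.finG
  have := h.finΩ
  have := h.norm
  have := h.simple
  have := h.prim
  have := Fintype.ofFinite G
  have := Fintype.ofFinite Ω
  have := Fintype.ofFinite T
  have := Fintype.ofFinite (Subgroup.zpowers g)
  obtain ⟨htr, -⟩ := exists_index h
  have h2 := card_le h.two
  have hne : Nonempty Ω := by
    by_contra hcon
    rw [not_nonempty_iff] at hcon
    have := h.two
    unfold Two at this
    rw [Nat.card_of_isEmpty] at this
    omega
  obtain ⟨a⟩ := hne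
  obtain ⟨m, hm1, hm2, hm3, hm4⟩ := exists_decomp' (G := G) a
  obtain ⟨c, hc⟩ := exists_mult (Subgroup.zpowers g)
  obtain ⟨t, ht⟩ := exists_mult T
  have hoC := card_orbits (Subgroup.zpowers g) hc hm1
  have hoT := card_orbits T ht hm1
  set one : IrrCharacter G := ⟨_, isIrr_one⟩ with hone
  have hmem : one ∈ m.support := by
    rw [Finsupp.mem_support_iff, hm2]
    exact one_ne_zero
  obtain ⟨S, hS⟩ : ∃ S, S = m.support.erase one := ⟨_, rfl⟩
  have hsplit : ∀ f : IrrCharacter G → ℕ, ∑ ψ ∈ m.support, f ψ = f one + ∑ ψ ∈ S, f ψ := by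
    intro f
    rw [hS]
    exact (Finset.add_sum_erase _ f hmem).symm
  have hself : ∀ (K : Subgroup G) [Fintype K] (r : IrrCharacter G → ℕ),
      (∀ ψ : IrrCharacter G, classInner (fun k : K => (ψ : G → ℂ) k) (fun _ => 1) = r ψ) →
      r one = 1 := by
    intro K _ r hr
    have h5 := hr one
    have h6 : classInner (fun k : K => (one : G → ℂ) k) (fun _ => 1) = 1 := classInner_irr_self (G := K) isIrr_one
    rw [h6] at h5
    exact_mod_cast h5.symm
  have hc1 := hself _ c hc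
  have ht1 := hself _ t ht
  rw [h.two, hsplit, hm2, hc1] at hoC
  have hT1 : Nat.card (orbitRel.Quotient T Ω) = 1 := by
    rw [Nat.card_eq_one_iff_unique]
    refine ⟨⟨fun x y => ?_⟩, ⟨Quotient.mk'' a⟩⟩
    obtain ⟨x, rfl⟩ := Quotient.exists_rep x
    obtain ⟨y, rfl⟩ := Quotient.exists_rep y
    obtain ⟨s, hs⟩ := exists_smul_eq T y x
    exact Quotient.sound ⟨s, hs⟩
  rw [hT1, hsplit, hm2, ht1] at hoT
  have hoT' : ∑ ψ ∈ S, m ψ * t ψ = 0 := by omega
  rw [Finset.sum_eq_zero_iff] at hoT'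
  have hrk : rk G Ω = Nat.card (orbitRel.Quotient (stabilizer G a) Ω) := Cfsg.Agent.S0669.result a
  rw [hrk, ← hm3, hsplit, hm2] at hcon
  have key := three_le_sum S m c (by omega) (by omega)
  rw [hsplit, hm2] at hm4
  have hd1 : 1 ≤ charDegree (one : G → ℂ) :=
    Cfsg.Agent.Blocks.Basic.charDegree_pos (isIrr_one (G := G))
  have hsum : (∑ ψ ∈ S, m ψ) * δ ≤ ∑ ψ ∈ S, m ψ * charDegree (ψ : G → ℂ) := by
    rw [Finset.sum_mul]
    refine Finset.sum_le_sum fun ψ hψ => Nat.mul_le_mul_left _ ?_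
    refine le_charDegree T h.nonab hδ ψ ?_
    have h5 := hoT' ψ hψ
    have h6 : m ψ ≠ 0 := by
      rw [hS] at hψ
      exact Finsupp.mem_support_iff.mp (Finset.mem_of_mem_erase hψ)
    have h7 : t ψ = 0 := by
      rcases Nat.mul_eq_zero.mp h5 with h8 | h8
      · exact absurd h8 h6
      · exact h8
    rw [ht, h7, Nat.cast_zero]
  have h5 : 3 * δ ≤ (∑ ψ ∈ S, m ψ) * δ := Nat.mul_le_mul_right _ key
  omega


/-- `MD` passes from a simple subgroup to a simple group. -/
theorem md_of_sub {X : Type u} [Group X] [Finite X] [IsSimpleGroup X] {Y : Type v} [Group Y] [IsSimpleGroup Y]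
    (hY : ¬ IsMulCommutative Y) (f : Y →* X) (hf : Function.Injective f) {δ : ℕ} (h : MD Y δ) : MD X δ := by
  classical
  intro χ hχ
  by_contra hlt
  have : Finite Y := Finite.of_injective f hf
  have := Fintype.ofFinite X
  have := Fintype.ofFinite Y
  obtain ⟨n, hn⟩ := exists_sum_irr (isCharacter_comp f (isIrr_isCharacter χ.2))
  have h2 : charDegree (χ : X → ℂ) = ∑ θ ∈ n.support, n θ * charDegree (θ : Y → ℂ) := by
    have h3 := congrFun hn 1
    rw [Finsupp.sum, Finset.sum_apply] at h3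
    have h4 : ((charDegree (χ : X → ℂ) : ℕ) : ℂ) = ((∑ θ ∈ n.support, n θ * charDegree (θ : Y → ℂ) : ℕ) : ℂ) := by
      rw [← Cfsg.Agent.Blocks.Basic.irr_one_eq_charDegree χ.2]
      have h5 : (χ : X → ℂ) 1 = ((χ : X → ℂ) ∘ f) 1 := by
        rw [Function.comp_apply, map_one]
      rw [h5, h3]
      push_cast
      refine Finset.sum_congr rfl fun θ _ => ?_
      rw [Pi.smul_apply, nsmul_eq_mul, Cfsg.Agent.Blocks.Basic.irr_one_eq_charDegree θ.2]
    exact_mod_cast h4
  have hone : ∀ θ ∈ n.support, (θ : Y → ℂ) = 1 := by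
    intro θ hθ
    have h5 : charDegree (θ : Y → ℂ) = 1 := by
      by_contra h6
      have h7 := h θ h6
      have h8 : charDegree (θ : Y → ℂ) ≤ n θ * charDegree (θ : Y → ℂ) :=
        Nat.le_mul_of_pos_left _ (Nat.pos_of_ne_zero (Finsupp.mem_support_iff.mp hθ))
      have h9 : n θ * charDegree (θ : Y → ℂ) ≤ ∑ θ ∈ n.support, n θ * charDegree (θ : Y → ℂ) :=
        Finset.single_le_sum (f := fun θ => n θ * charDegree (θ : Y → ℂ)) (fun _ _ => Nat.zero_le _) hθ
      omega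
    refine Cfsg.Agent.SporadicA.M11CharSimple.eq_one_of_degree_one ?_ θ.2 ?_
    · intro hc
      exact hY ⟨⟨fun a b => hc a b⟩⟩
    · rw [Cfsg.Agent.Blocks.Basic.irr_one_eq_charDegree θ.2, h5, Nat.cast_one]
  have hconst : ∀ y : Y, (χ : X → ℂ) (f y) = (χ : X → ℂ) 1 := by
    intro y
    have h5 : (χ : X → ℂ) (f y) = ((χ : X → ℂ) ∘ f) y := rfl
    have h6 : (χ : X → ℂ) 1 = ((χ : X → ℂ) ∘ f) 1 := by
      rw [Function.comp_apply, map_one]
    rw [h5, h6, hn, Finsupp.sum, Finset.sum_apply, Finset.sum_apply]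
    refine Finset.sum_congr rfl fun θ hθ => ?_
    rw [Pi.smul_apply, Pi.smul_apply, hone θ hθ]
    rfl
  obtain ⟨y, hy⟩ := exists_ne (1 : Y)
  have h5 : f y ∈ Cfsg.Agent.H686.CharKit.chKer χ := hconst y
  rw [Cfsg.Agent.H677.CodMultiset.chKer_eq_bot (H954.OutDeg.ne_one hχ), Subgroup.mem_bot] at h5
  exact hy (hf (by rw [h5, map_one]))

/-- the degrees of `A_n` -/
theorem deg_alt {n : ℕ} (hn : 5 ≤ n) (χ : IrrCharacter (alternatingGroup (Fin n))) :
    ∃ d : ℕ, H704.IsDeg n d ∧ (d = charDegree (χ : alternatingGroup (Fin n) → ℂ) ∨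
      d = 2 * charDegree (χ : alternatingGroup (Fin n) → ℂ)) := by
  have : Nontrivial (Fin n) := Fin.nontrivial_iff_two_le.2 (by omega)
  have h1 : (alternatingGroup (Fin n)).index = 2 := alternatingGroup.index_eq_two
  obtain ⟨ψ, hψ, h2⟩ := H621.SymDeg.exists_over h1 χ.2
  obtain ⟨d, h3, h4⟩ := H704.isDeg_of_irr hψ
  refine ⟨d, h4, ?_⟩
  rw [Cfsg.Agent.Blocks.Basic.irr_one_eq_charDegree χ.2, h3] at h2
  rcases h2 with h2 | h2
  · left; exact_mod_cast h2
  · right; exact_mod_cast h2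

theorem alt_simple {n : ℕ} (hn : 5 ≤ n) : IsSimpleGroup (alternatingGroup (Fin n)) :=
  alternatingGroup.isSimpleGroup (by rw [Nat.card_eq_fintype_card, Fintype.card_fin]; exact hn)

theorem alt_not_comm {n : ℕ} (hn : 5 ≤ n) : ¬ IsMulCommutative (alternatingGroup (Fin n)) := by
  intro h
  have hs := alt_simple hn
  have hc : ∀ a b : alternatingGroup (Fin n), a * b = b * a := h.is_comm.comm
  let _ : CommGroup (alternatingGroup (Fin n)) :=
    { (inferInstance : Group (alternatingGroup (Fin n))) with mul_comm := hc }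
  have hp : (Nat.card (alternatingGroup (Fin n))).Prime := IsSimpleGroup.prime_card
  have h1 := H321.Alt.card_alt (n := n) (by omega)
  have h2 : 12 ∣ Nat.card (alternatingGroup (Fin n)) := by
    have h3 : Nat.factorial 4 ∣ n.factorial := Nat.factorial_dvd_factorial (by omega)
    rw [← h1, show Nat.factorial 4 = 2 * 12 by rfl] at h3
    exact Nat.dvd_of_mul_dvd_mul_left (by norm_num) h3
  have h3 : 2 ∣ Nat.card (alternatingGroup (Fin n)) := dvd_trans (by norm_num) h2
  have h4 := (Nat.prime_dvd_prime_iff_eq Nat.prime_two hp).1 h3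
  rw [← h4] at h2
  norm_num at h2

theorem md_five : MD (alternatingGroup (Fin 5)) 3 :=
  have := alt_simple (n := 5) le_rfl
  H954.OutDeg.md_three (alt_not_comm le_rfl)

theorem md_six : MD (alternatingGroup (Fin 6)) 5 := by
  intro χ hχ
  obtain ⟨d, h1, h2⟩ := deg_alt (by norm_num) χ
  have h3 := H704.deg6 h1
  simp only [List.mem_cons, List.not_mem_nil, or_false] at h3
  omega

theorem md_seven : MD (alternatingGroup (Fin 7)) 6 := by
  have h5 : MD (alternatingGroup (Fin 7)) 5 := by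
    obtain ⟨f, hf⟩ := H321.Alt.exists_inj (m := 6) (n := 7) (by norm_num)
    have := alt_simple (n := 7) (by norm_num)
    have := alt_simple (n := 6) (by norm_num)
    exact md_of_sub (alt_not_comm (by norm_num)) f hf md_six
  intro χ hχ
  obtain ⟨d, h1, h2⟩ := deg_alt (by norm_num) χ
  have h3 := H704.deg7 h1
  simp only [List.mem_cons, List.not_mem_nil, or_false] at h3
  have h4 := h5 χ hχ
  omega

theorem md_eight : MD (alternatingGroup (Fin 8)) 7 := by
  intro χ hχ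
  obtain ⟨d, h1, h2⟩ := deg_alt (by norm_num) χ
  have h3 := H704.deg8 h1
  simp only [List.mem_cons, List.not_mem_nil, or_false] at h3
  omega

end Cfsg.Agent.H396.TwoCyc
end
end

-- part: H536/TC/RowHS
section
set_option linter.all false
open scoped Cfsg.Agent.FastGrp

-- part: H536/TC/Srch
section
/-!
# Searching for profiles (helper536)

`cls` : the classes of divisors of `N`, `(Q, ds)` with `Q ∣ d` for `d ∈ ds`; `cs` : the constraints `(j, A)`:
`∑_{d ∣ j} e d ∈ A`.  `kill` : if the Boolean `chk` is true there is no such `e` with `φ(d) ∣ e d`.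
-/

set_option autoImplicit false

namespace Cfsg.Agent.H536.TC

/-- Euler's function -/
def tot (n : ℕ) : ℕ := ((List.range n).filter fun a => Nat.gcd n a == 1).length

theorem tot_eq (n : ℕ) : tot n = n.totient := by
  have h1 : n.totient = ((List.range n).filter fun a => decide (Nat.Coprime n a)).length := rfl
  rw [h1]
  unfold tot
  congr 1

/-- the divisors -/
def divs (n : ℕ) : List ℕ := (List.range (n + 1)).filter fun d => d != 0 && n % d == 0

theorem mem_divs {n d : ℕ} (hn : 0 < n) : d ∈ divs n ↔ d ∈ n.divisors := by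
  unfold divs
  rw [List.mem_filter, List.mem_range, Nat.mem_divisors, Bool.and_eq_true, bne_iff_ne, beq_iff_eq]
  constructor
  · rintro ⟨-, -, h⟩
    exact ⟨Nat.dvd_of_mod_eq_zero h, hn.ne'⟩
  · rintro ⟨h, -⟩
    exact ⟨Nat.lt_succ_of_le (Nat.le_of_dvd hn h), (Nat.pos_of_dvd_of_pos h hn).ne', Nat.mod_eq_zero_of_dvd h⟩

theorem nodup_divs (n : ℕ) : (divs n).Nodup := List.nodup_range.filter _

theorem sum_divs {n : ℕ} (hn : 0 < n) (e : ℕ → ℕ) : ∑ d ∈ n.divisors, e d = ((divs n).map e).sum := by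
  have h1 : n.divisors = (divs n).toFinset := by
    ext d
    rw [List.mem_toFinset, mem_divs hn]
  rw [h1, List.sum_toFinset _ (nodup_divs n)]

/-- does the class `c` contribute to the constraint `j`? -/
def flag (j : ℕ) (c : ℕ × List ℕ) : Bool := c.2.all fun d => j % d == 0

/-- adding the value `v` for the class `c` -/
def step (c : ℕ × List ℕ) (v : ℕ) (a : ℕ × ℕ × List ℕ) : ℕ × ℕ × List ℕ :=
  if flag a.1 c then (a.1, a.2.1 + v, a.2.2) else a

/-- the search -/
def srch : List (ℕ × List ℕ) → ℕ → List (ℕ × ℕ × List ℕ) → Bool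
  | [], rem, accs => rem == 0 && accs.all fun a => a.2.2.contains a.2.1
  | c :: L, rem, accs =>
    let w := tot c.1
    (List.range (rem / w + 1)).any fun k =>
      let accs' := accs.map (step c (w * k))
      (accs'.all fun a => a.2.2.any fun b => Nat.ble a.2.1 b) && srch L (rem - w * k) accs'

/-- the value of a class -/
def val (e : ℕ → ℕ) (c : ℕ × List ℕ) : ℕ := (c.2.map e).sum

theorem srch_of {e : ℕ → ℕ} : ∀ {L : List (ℕ × List ℕ)} {rem : ℕ} {accs : List (ℕ × ℕ × List ℕ)},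
    (∀ c ∈ L, 0 < c.1 ∧ tot c.1 ∣ val e c) → (L.map (val e)).sum = rem →
    (∀ a ∈ accs, a.2.1 + ((L.filter (flag a.1)).map (val e)).sum ∈ a.2.2) → srch L rem accs = true := by
  intro L
  induction L with
  | nil =>
    intro rem accs _ h2 h3
    unfold srch
    rw [Bool.and_eq_true, beq_iff_eq, List.all_eq_true]
    refine ⟨h2.symm, fun a ha => ?_⟩
    have h4 := h3 a ha
    rw [List.filter_nil, List.map_nil, List.sum_nil, add_zero] at h4
    rw [List.contains_iff_mem]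
    exact h4
  | cons c L ih =>
    intro rem accs h1 h2 h3
    unfold srch
    obtain ⟨hc0, k, hk⟩ := h1 c List.mem_cons_self
    have hw : 0 < tot c.1 := by
      rw [tot_eq]
      exact Nat.totient_pos.2 hc0
    rw [List.map_cons, List.sum_cons] at h2
    dsimp only
    rw [List.any_eq_true]
    refine ⟨k, ?_, ?_⟩
    · rw [List.mem_range, Nat.lt_succ_iff, Nat.le_div_iff_mul_le hw, mul_comm, ← hk]
      omega
    · have h4 : ∀ a ∈ accs.map (step c (tot c.1 * k)), a.2.1 + ((L.filter (flag a.1)).map (val e)).sum ∈ a.2.2 := by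
        intro a ha
        obtain ⟨b, hb, rfl⟩ := List.mem_map.1 ha
        have h5 := h3 b hb
        unfold step
        by_cases hf : flag b.1 c = true
        · rw [if_pos hf]
          rw [List.filter_cons_of_pos hf, List.map_cons, List.sum_cons, ← add_assoc, hk] at h5
          exact h5
        · rw [if_neg hf]
          rw [List.filter_cons_of_neg hf] at h5
          exact h5
      rw [Bool.and_eq_true, List.all_eq_true]
      refine ⟨fun a ha => ?_, ih (fun c hc => h1 c (List.mem_cons_of_mem _ hc)) ?_ h4⟩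
      · rw [List.any_eq_true]
        exact ⟨_, h4 a ha, by rw [Nat.ble_eq]; exact Nat.le_add_right _ _⟩
      · rw [← hk]
        omega

/-- the check: no profile -/
def chk (N D : ℕ) (cls : List (ℕ × List ℕ)) (cs : List (ℕ × List ℕ)) : Bool :=
  N != 0 && (cls.all fun c => c.1 != 0 && c.2.all fun d => d != 0 && d % c.1 == 0) &&
    ((cls.flatMap fun c => c.2).isPerm (divs N)) &&
    (cs.all fun a => a.1 != 0 && (((cls.filter (flag a.1)).flatMap fun c => c.2).isPerm (divs a.1))) &&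
    !(srch cls D (cs.map fun a => (a.1, 0, a.2)))

theorem sum_flatMap (e : ℕ → ℕ) (L : List (ℕ × List ℕ)) : ((L.flatMap fun c => c.2).map e).sum = (L.map (val e)).sum := by
  induction L with
  | nil => rfl
  | cons c L ih =>
    rw [List.flatMap_cons, List.map_append, List.sum_append, ih, List.map_cons, List.sum_cons]
    rfl

theorem kill {e : ℕ → ℕ} (h1 : ∀ d, 0 < d → d.totient ∣ e d) {N D : ℕ} {cls : List (ℕ × List ℕ)}
    {cs : List (ℕ × List ℕ)} (hchk : chk N D cls cs = true) (hN : ∑ d ∈ N.divisors, e d = D)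
    (hc : ∀ c ∈ cs, ∑ d ∈ c.1.divisors, e d ∈ c.2) : False := by
  unfold chk at hchk
  simp only [Bool.and_eq_true, bne_iff_ne, Bool.not_eq_true'] at hchk
  obtain ⟨⟨⟨⟨g0, g1⟩, g2⟩, g3⟩, g4⟩ := hchk
  rw [List.all_eq_true] at g1 g3
  have hs := srch_of (e := e) (L := cls) (rem := D) (accs := cs.map fun a => (a.1, 0, a.2)) ?_ ?_ ?_
  · rw [g4] at hs
    exact absurd hs (by decide)
  · intro c hc
    have h2 := g1 c hc
    rw [Bool.and_eq_true, bne_iff_ne, List.all_eq_true] at h2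
    refine ⟨Nat.pos_of_ne_zero h2.1, ?_⟩
    unfold val
    apply List.dvd_sum
    intro x hx
    obtain ⟨d, hd, rfl⟩ := List.mem_map.1 hx
    have h3 := h2.2 d hd
    rw [Bool.and_eq_true, bne_iff_ne, beq_iff_eq] at h3
    rw [tot_eq]
    exact (Nat.totient_dvd_of_dvd (Nat.dvd_of_mod_eq_zero h3.2)).trans (h1 d (Nat.pos_of_ne_zero h3.1))
  · rw [← sum_flatMap, ← hN, sum_divs (Nat.pos_of_ne_zero g0)]
    exact ((List.isPerm_iff.1 g2).map e).sum_eq
  · intro a ha
    obtain ⟨b, hb, rfl⟩ := List.mem_map.1 ha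
    have h2 := g3 b hb
    rw [Bool.and_eq_true, bne_iff_ne] at h2
    have h3 := hc b hb
    rw [sum_divs (Nat.pos_of_ne_zero h2.1)] at h3
    have h4 := ((List.isPerm_iff.1 h2.2).map e).sum_eq
    rw [← h4, sum_flatMap] at h3
    rw [zero_add]
    exact h3

end Cfsg.Agent.H536.TC
end

-- part: H536/TC/Tools
section
/-!
# Two cycles: tools for the sporadic rows (helper536, S3507)

* `pow_mem` : `g ^ |Out T| ∈ T`;
* `exists_kl` : the lengths of the two cycles divide the order of `g`;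
* `okp_index` : the residues of the index of a subgroup modulo `p` (`p² ∤ |S|`);
* `false_of_chk` : the row from a finite check.
-/

set_option autoImplicit false

namespace Cfsg.Agent.H536.TC

open MulAction Cfsg Cfsg.Agent.H384.Cyc Cfsg.Agent.H482.TwoCyc

universe u v

section

variable {G : Type u} [Group G] {Ω : Type v} [MulAction G Ω]

/-- the powers of automorphisms -/
theorem exists_inner {T : Type u} [Group T] {k : ℕ} (hk : Nat.card (Out T) = k) (hk0 : k ≠ 0) (α : MulAut T) :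
    ∃ t : T, α ^ k = MulAut.conj t := by
  have hfin : Finite (Out T) := Nat.finite_of_card_ne_zero (by rw [hk]; exact hk0)
  have h1 : ((α : MulAut T) : Out T) ^ k = 1 := by rw [← hk]; exact pow_card_eq_one'
  have h2 : ((α ^ k : MulAut T) : Out T) = 1 := by rw [← h1]; rfl
  obtain ⟨t, ht⟩ := (QuotientGroup.eq_one_iff _).1 h2
  exact ⟨t, ht.symm⟩

theorem mo_of_out {T : Type u} [Group T] [Finite T] {k c : ℕ} (hk : Nat.card (Out T) = k) (hk0 : k ≠ 0)
    (hc : ∀ t : T, orderOf t ≤ c) : Mo T (k * c) := by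
  intro α
  obtain ⟨t, ht⟩ := exists_inner hk hk0 α
  have h1 : α ^ (k * orderOf t) = 1 := by
    rw [pow_mul, ht, ← map_pow, pow_orderOf_eq_one, map_one]
  have h2 := Nat.le_of_dvd (Nat.mul_pos (Nat.pos_of_ne_zero hk0) (orderOf_pos t)) (orderOf_dvd_of_pow_eq_one h1)
  exact h2.trans (Nat.mul_le_mul_left k (hc t))

theorem pow_mem {T : Subgroup G} {g : G} (h : TC G Ω T g) {k : ℕ} (hk : Nat.card (Out T) = k) (hk0 : k ≠ 0) :
    g ^ k ∈ T := by
  have := h.norm
  obtain ⟨t, ht⟩ := exists_inner hk hk0 (MulAut.conjNormal g : MulAut T)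
  have h1 : (t : G)⁻¹ * g ^ k ∈ Subgroup.centralizer (T : Set G) := by
    rw [Subgroup.mem_centralizer_iff]
    intro y hy
    have h2 := congrArg (fun f : MulAut T => ((f ⟨y, hy⟩ : T) : G)) ht
    rw [← map_pow] at h2
    simp only [MulAut.conjNormal_apply, MulAut.conj_apply, Subgroup.coe_mul, InvMemClass.coe_inv] at h2
    calc y * ((t : G)⁻¹ * g ^ k) = (t : G)⁻¹ * ((t : G) * y * (t : G)⁻¹) * g ^ k := by group
      _ = (t : G)⁻¹ * (g ^ k * y * (g ^ k)⁻¹) * g ^ k := by rw [h2]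
      _ = (t : G)⁻¹ * g ^ k * y := by group
  rw [h.cent, Subgroup.mem_bot] at h1
  have h2 : (t : G) = g ^ k := inv_mul_eq_one.1 h1
  rw [← h2]
  exact t.2

/-- the lengths of the two cycles -/
theorem exists_kl [Finite G] [Finite Ω] {g : G} (hg : Two Ω g) :
    ∃ k l, k ∣ orderOf g ∧ l ∣ orderOf g ∧ Nat.card Ω = k + l := by
  classical
  have := Fintype.ofFinite (orbitRel.Quotient (Subgroup.zpowers g) Ω)
  have h0 : (Finset.univ : Finset (orbitRel.Quotient (Subgroup.zpowers g) Ω)).card = 2 := by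
    rw [Finset.card_univ, ← Nat.card_eq_fintype_card]
    exact hg
  obtain ⟨qa, qb, hq, h1⟩ := Finset.card_eq_two.1 h0
  refine ⟨Nat.card qa.orbit, Nat.card qb.orbit, ?_, ?_, ?_⟩
  · rw [← Nat.card_zpowers]; exact card_orbit_dvd qa
  · rw [← Nat.card_zpowers]; exact card_orbit_dvd qb
  · rw [card_eq_sum (K := Subgroup.zpowers g), h1, Finset.sum_pair hq]

end

/-! ### Residues -/

/-- `n ≡ f mod p` with `f = 0` or `p f ∣ N` -/
def okp (p N n : ℕ) : Bool :=
  n % p == 0 || (List.range (N / p + 1)).any fun f => f != 0 && N % (p * f) == 0 && n % p == f % p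

theorem okp_index {S : Type u} [Group S] [Finite S] {p N : ℕ} (hp : p.Prime) (hpS : p ∣ Nat.card S)
    (h2 : ¬ p ^ 2 ∣ Nat.card S) (hN : ∀ R : Subgroup S, Nat.card R = p → Nat.card (Subgroup.normalizer (R : Set S)) = N)
    (H : Subgroup S) : okp p N H.index = true := by
  obtain ⟨x, hx, hmod, h⟩ := Cfsg.Agent.H715.Fpr.fix_prime_exact hp hpS h2 H
  unfold okp
  rw [Bool.or_eq_true, beq_iff_eq]
  rcases h with h | ⟨R, hR, h⟩
  · left
    rw [h] at hmod
    rw [← hmod]
    exact Nat.zero_mod p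
  · right
    rw [hN R hR] at h
    have hNpos : 0 < N := by
      rw [← hN R hR]
      exact Nat.card_pos
    set f := Nat.card (fixedBy (S ⧸ H) x) with hf
    have hf0 : f ≠ 0 := by
      intro h0
      rw [h0, mul_zero, zero_dvd_iff] at h
      omega
    have h3 : f ≤ N / p := by
      rw [Nat.le_div_iff_mul_le hp.pos, mul_comm]
      exact Nat.le_of_dvd hNpos h
    rw [List.any_eq_true]
    refine ⟨f, List.mem_range.2 (by omega), ?_⟩
    rw [Bool.and_eq_true, Bool.and_eq_true, bne_iff_ne, beq_iff_eq, beq_iff_eq]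
    exact ⟨⟨hf0, Nat.mod_eq_zero_of_dvd h⟩, hmod.symm⟩

/-! ### The row from a finite check -/

/-- the check: `L` = the possible orders of `g`, `lo` = lower bound for the degree, `N = |T|` -/
def rowChk (L : List ℕ) (lo N : ℕ) (ps : List (ℕ × ℕ)) : Bool :=
  L.all fun m => (divs m).all fun k => (divs m).all fun l =>
    Nat.blt (k + l) lo || N % (k + l) != 0 || ps.any fun x => !okp x.1 x.2 (k + l)

theorem false_of_chk {G : Type u} [Group G] {Ω : Type v} [MulAction G Ω] {T : Subgroup G} {g : G} (h : TC G Ω T g)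
    {L : List ℕ} {lo N : ℕ} {ps : List (ℕ × ℕ)} (hchk : rowChk L lo N ps = true) (hg : orderOf g ∈ L)
    (hN : Nat.card T = N) (hlo : lo ≤ Nat.card Ω)
    (hps : ∀ x ∈ ps, (x.1).Prime ∧ x.1 ∣ N ∧ ¬ x.1 ^ 2 ∣ N ∧
      ∀ R : Subgroup T, Nat.card R = x.1 → Nat.card (Subgroup.normalizer (R : Set T)) = x.2) : False := by
  have := h.finG
  have := h.finΩ
  obtain ⟨-, h1⟩ := exists_index h
  obtain ⟨k, l, hk, hl, hkl⟩ := exists_kl h.two
  have hne : Nonempty Ω := by
    by_contra hcon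
    rw [not_nonempty_iff] at hcon
    have := h.two
    unfold Two at this
    rw [Nat.card_of_isEmpty] at this
    omega
  obtain ⟨a⟩ := hne
  obtain ⟨h2, -⟩ := h1 a
  have hpos : 0 < orderOf g := orderOf_pos g
  unfold rowChk at hchk
  rw [List.all_eq_true] at hchk
  have h3 := hchk _ hg
  rw [List.all_eq_true] at h3
  have h4 := h3 k ((mem_divs hpos).2 (Nat.mem_divisors.2 ⟨hk, hpos.ne'⟩))
  rw [List.all_eq_true] at h4
  have h5 := h4 l ((mem_divs hpos).2 (Nat.mem_divisors.2 ⟨hl, hpos.ne'⟩))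
  rw [Bool.or_eq_true, Bool.or_eq_true] at h5
  rcases h5 with (h5 | h5) | h5
  · rw [Nat.blt_eq] at h5
    omega
  · rw [bne_iff_ne] at h5
    apply h5
    rw [← hkl, ← h2, ← hN]
    exact Nat.mod_eq_zero_of_dvd (Subgroup.index_dvd_card _)
  · rw [List.any_eq_true] at h5
    obtain ⟨x, hx, h6⟩ := h5
    obtain ⟨hp, hp1, hp2, hp3⟩ := hps x hx
    have h7 := okp_index hp (by rw [hN]; exact hp1) (by rw [hN]; exact hp2) hp3 (stabilizer T a)
    rw [h2, hkl] at h7
    rw [h7] at h6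
    exact absurd h6 (by decide)

end Cfsg.Agent.H536.TC
end

-- part: H536/TC/Prof
section
/-!
# The profile of an endomorphism of finite order of a rational space (helper536)

`prof f d` : the dimension of the kernel of the `d`-th cyclotomic polynomial in `f`;
* `dvd_prof` : `φ(d) ∣ prof f d`;
* `finrank_fix_pow` : `dim fix (f ^ n) = ∑_{d ∣ n} prof f d`.
-/

set_option autoImplicit false

namespace Cfsg.Agent.H536.TC

open Module Polynomial Cfsg.Agent.SigZeroCo2.Rank

variable {V : Type*} [AddCommGroup V] [Module ℚ V]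

/-- the dimension of the `d`-part -/
noncomputable def prof (f : Module.End ℚ V) (d : ℕ) : ℕ := finrank ℚ (LinearMap.ker (aeval f (cyclotomic d ℚ)))

theorem dvd_prof (f : Module.End ℚ V) {d : ℕ} (hd : 0 < d) : d.totient ∣ prof f d := by
  set K := LinearMap.ker (aeval f (cyclotomic d ℚ)) with hK
  have hinv : ∀ v ∈ K, f v ∈ K := by
    intro v hv
    rw [hK, LinearMap.mem_ker] at hv ⊢
    have h1 : Commute f (aeval f (cyclotomic d ℚ)) := by
      have h2 : f = aeval f (X : ℚ[X]) := (aeval_X f).symm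
      conv_lhs => rw [h2]
      exact (Commute.all (X : ℚ[X]) (cyclotomic d ℚ)).map (aeval f)
    have h3 : aeval f (cyclotomic d ℚ) (f v) = f (aeval f (cyclotomic d ℚ) v) := by
      rw [← Module.End.mul_apply, ← Module.End.mul_apply, h1.eq]
    rw [h3, hv, map_zero]
  refine Cfsg.Agent.PreUniqCo.Rat.dvd_finrank_of_aeval hd (f.restrict hinv) ?_
  apply LinearMap.ext
  intro v
  apply Subtype.ext
  have key : ∀ p : ℚ[X], ((aeval (f.restrict hinv) p v : K) : V) = aeval f p (v : V) := by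
    intro p
    induction p using Polynomial.induction_on' with
    | add p q hp hq =>
      rw [map_add, map_add, LinearMap.add_apply, LinearMap.add_apply, Submodule.coe_add, hp, hq]
    | monomial n a =>
      rw [aeval_monomial, aeval_monomial, Module.End.mul_apply, Module.End.mul_apply, Module.algebraMap_end_apply,
        Module.algebraMap_end_apply, Submodule.coe_smul, Module.End.pow_restrict]
      rfl
  rw [key]
  have h1 : (v : V) ∈ K := v.2
  rw [hK, LinearMap.mem_ker] at h1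
  rw [h1]
  rfl

variable [FiniteDimensional ℚ V]

theorem finrank_ker_mul (f : Module.End ℚ V) {p q : ℚ[X]} (h : IsCoprime p q) :
    finrank ℚ (LinearMap.ker (aeval f (p * q))) =
      finrank ℚ (LinearMap.ker (aeval f p)) + finrank ℚ (LinearMap.ker (aeval f q)) := by
  rw [← sup_ker_aeval_eq_ker_aeval_mul_of_coprime f h]
  have h1 := Submodule.finrank_sup_add_finrank_inf_eq (LinearMap.ker (aeval f p)) (LinearMap.ker (aeval f q))
  have h2 := (disjoint_ker_aeval_of_isCoprime f h).eq_bot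
  rw [h2, finrank_bot, add_zero] at h1
  exact h1

theorem finrank_ker_prod (f : Module.End ℚ V) (S : Finset ℕ) :
    finrank ℚ (LinearMap.ker (aeval f (∏ d ∈ S, cyclotomic d ℚ))) = ∑ d ∈ S, prof f d := by
  classical
  induction S using Finset.induction_on with
  | empty =>
    rw [Finset.prod_empty, Finset.sum_empty, map_one, Module.End.one_eq_id, LinearMap.ker_id, finrank_bot]
  | insert a S ha ih =>
    rw [Finset.prod_insert ha, Finset.sum_insert ha, finrank_ker_mul, ih]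
    · rfl
    · refine IsCoprime.prod_right fun d hd => cyclotomic.isCoprime_rat ?_
      rintro rfl
      exact ha hd

/-- the fixed space of a power -/
theorem finrank_fix_pow (f : Module.End ℚ V) {n : ℕ} (hn : 0 < n) :
    finrank ℚ (fix (f ^ n)) = ∑ d ∈ n.divisors, prof f d := by
  rw [← finrank_ker_prod, prod_cyclotomic_eq_X_pow_sub_one hn, map_sub, map_pow, aeval_X, map_one]
  rfl

end Cfsg.Agent.H536.TC
end

-- part: H536/TC/Co0Ord
section
/-!
# The element orders of `Co0` (helper536)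

From the fixed dimensions of the elements of prime order (2: 0, 8, 12, 16; 3: 0, 6, 8, 12; 5: 0, 4, 8; 7: 0, 6; 11: 4;
13: 0; 23: 2) alone:

* `orders_co0` : `orderOf g ∈ L0`, in particular `orderOf g ≤ 240`;
* `orders_fix` : `orderOf g ∈ L1`, in particular `orderOf g ≤ 144`, if `g` fixes a nonzero vector.
-/

set_option autoImplicit false

namespace Cfsg.Agent.H536.TC

open Module Cfsg Cfsg.Agent.SigZeroCo2.Rank
open Cfsg.Agent.SigZeroCo2.Lin (rep Sp toV toV_injective rep_toV)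

/-! ### Lists of divisors -/

/-- all divisors `m ∏ p ^ k` are in `L` or divisible by a member of `K` -/
def enum (K L : List ℕ) : List (ℕ × ℕ) → ℕ → Bool
  | [], m => L.contains m
  | x :: l, m => (List.range (x.2 + 1)).all fun k =>
    (K.any fun y => (m * x.1 ^ k) % y == 0) || enum K L l (m * x.1 ^ k)

theorem enum_sound {K L : List ℕ} : ∀ {l : List (ℕ × ℕ)} {m d : ℕ}, (∀ x ∈ l, (x.1).Prime) →
    enum K L l m = true → d ∣ (l.map fun x => x.1 ^ x.2).prod → (∀ y ∈ K, ¬ y ∣ m * d) → m * d ∈ L := by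
  intro l
  induction l with
  | nil =>
    intro m d _ h hd _
    rw [List.map_nil, List.prod_nil, Nat.dvd_one] at hd
    subst hd
    unfold enum at h
    rw [mul_one]
    exact List.contains_iff_mem.1 h
  | cons x l ih =>
    intro m d hp h hd hK
    rw [List.map_cons, List.prod_cons] at hd
    obtain ⟨a, b, ha, hb, rfl⟩ := (Nat.dvd_mul).1 hd
    obtain ⟨k, hk, rfl⟩ := (Nat.dvd_prime_pow (hp x List.mem_cons_self)).1 ha
    unfold enum at h
    rw [List.all_eq_true] at h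
    have h1 := h k (List.mem_range.2 (by omega))
    rw [Bool.or_eq_true] at h1
    rw [← mul_assoc] at hK ⊢
    rcases h1 with h1 | h1
    · rw [List.any_eq_true] at h1
      obtain ⟨y, hy, h2⟩ := h1
      rw [beq_iff_eq] at h2
      exact absurd ((Nat.dvd_of_mod_eq_zero h2).trans (dvd_mul_right _ b)) (hK y hy)
    · exact ih (fun y hy => hp y (List.mem_cons_of_mem _ hy)) h1 hb hK

/-! ### Fixed dimensions -/

/-- the fixed dimensions of the elements of prime order -/
def al : ℕ → List ℕ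
  | 2 => [0, 8, 12, 16]
  | 3 => [0, 6, 8, 12]
  | 5 => [0, 4, 8]
  | 7 => [0, 6]
  | 11 => [4]
  | 13 => [0]
  | 23 => [2]
  | _ => List.range 25

theorem finrank_Sp : finrank ℚ Sp = 24 := Cfsg.Agent.H898.RowCo0.finrank_Sp

theorem mem_al {g : Co0} {p : ℕ} (hp : p.Prime) (hg : orderOf g = p) : finrank ℚ (fix (rep g)) ∈ al p := by
  by_cases h2 : p = 2
  · subst h2
    have h1 : g * g = 1 := by rw [← pow_two, ← hg, pow_orderOf_eq_one]
    have h3 : g ≠ 1 := by
      rintro rfl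
      rw [orderOf_one] at hg
      omega
    have h4 := Cfsg.Agent.BpSpor.Co2.Five.dims_two h1 h3
    unfold al
    simp only [List.mem_cons, List.not_mem_nil, or_false]
    omega
  by_cases h3 : p = 3
  · subst h3
    have h4 := Cfsg.Agent.H898.RowCo0.fix_three hg
    unfold al
    simp only [List.mem_cons, List.not_mem_nil, or_false]
    omega
  have h5 : 5 ≤ p := by
    by_contra hc
    push Not at hc
    interval_cases p
    all_goals first | exact absurd hp (by decide) | omega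
  have h8 := Cfsg.Agent.H898.RowCo0.fix_le_eight' hp h5 hg
  obtain ⟨k, hk⟩ := Cfsg.Agent.H898.RowCo0.exists_dim hp hg
  have hgen : finrank ℚ (fix (rep g)) ∈ List.range 25 := List.mem_range.2 (by omega)
  unfold al
  split
  · omega
  · omega
  · simp only [List.mem_cons, List.not_mem_nil, or_false]; omega
  · simp only [List.mem_cons, List.not_mem_nil, or_false]; omega
  · simp only [List.mem_cons, List.not_mem_nil, or_false]; omega
  · simp only [List.mem_cons, List.not_mem_nil, or_false]; omega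
  · simp only [List.mem_cons, List.not_mem_nil, or_false]; omega
  · exact hgen

/-! ### Excluding orders -/

/-- the primes of `|Co0|` dividing `N` -/
def psOf (N : ℕ) : List ℕ := [2, 3, 5, 7, 11, 13, 23].filter fun p => N % p == 0

theorem psOf_prime {N p : ℕ} (h : p ∈ psOf N) : p.Prime ∧ p ∣ N := by
  unfold psOf at h
  rw [List.mem_filter, beq_iff_eq] at h
  refine ⟨?_, Nat.dvd_of_mod_eq_zero h.2⟩
  have h1 := h.1
  simp only [List.mem_cons, List.not_mem_nil, or_false] at h1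
  rcases h1 with rfl | rfl | rfl | rfl | rfl | rfl | rfl <;> norm_num

/-- the constraints for elements of `Co0` -/
def cs0 (N : ℕ) : List (ℕ × List ℕ) := (psOf N).map fun p => (N / p, al p)

/-- the constraints for elements with a fixed vector -/
def cs1 (N : ℕ) : List (ℕ × List ℕ) :=
  (N / (psOf N).prod, List.range' 1 24) :: (psOf N).map fun p => (N / p, (al p).filter fun x => x != 0)

theorem sum_prof (g : Co0) {j : ℕ} (hj : 0 < j) : ∑ d ∈ j.divisors, prof (rep g) d = finrank ℚ (fix (rep (g ^ j))) := by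
  rw [← finrank_fix_pow _ hj, map_pow]

theorem fix_one : finrank ℚ (fix (rep (1 : Co0))) = 24 := by
  rw [map_one, ← finrank_Sp]
  have h1 : fix (1 : Module.End ℚ Sp) = ⊤ := by
    rw [eq_top_iff]
    intro v _
    rw [mem_fix]
    rfl
  rw [h1, finrank_top]

theorem ne_of_chk {N : ℕ} {cls : List (ℕ × List ℕ)} (h : chk N 24 cls (cs0 N) = true) (g : Co0) : orderOf g ≠ N := by
  intro hg
  have hN : 0 < N := by
    unfold chk at h
    simp only [Bool.and_eq_true, bne_iff_ne] at h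
    exact Nat.pos_of_ne_zero h.1.1.1.1
  refine kill (e := prof (rep g)) (fun d hd => dvd_prof _ hd) h ?_ ?_
  · rw [sum_prof g hN, ← hg, pow_orderOf_eq_one, fix_one]
  · intro c hc
    unfold cs0 at hc
    obtain ⟨p, hp, rfl⟩ := List.mem_map.1 hc
    obtain ⟨hpp, hpN⟩ := psOf_prime hp
    have hj : 0 < N / p := Nat.div_pos (Nat.le_of_dvd hN hpN) hpp.pos
    dsimp only
    rw [sum_prof g hj]
    apply mem_al hpp
    rw [orderOf_pow_of_dvd hj.ne' (by rw [hg]; exact Nat.div_dvd_of_dvd hpN), hg, Nat.div_div_self hpN hN.ne']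

theorem ne_of_chk_fix {N : ℕ} {cls : List (ℕ × List ℕ)} (h : chk N 24 cls (cs1 N) = true) {g : Co0}
    {v : leechLattice} (hv : v ≠ 0) (hgv : g • v = v) : orderOf g ≠ N := by
  intro hg
  have h0 := h
  unfold chk at h0
  simp only [Bool.and_eq_true, bne_iff_ne] at h0
  have hN : 0 < N := Nat.pos_of_ne_zero h0.1.1.1.1
  have hj0 : 0 < N / (psOf N).prod := by
    have h1 := h0.1.2
    rw [List.all_eq_true] at h1
    have h2 := h1 (N / (psOf N).prod, List.range' 1 24) (by unfold cs1; exact List.mem_cons_self)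
    rw [Bool.and_eq_true, bne_iff_ne] at h2
    exact Nat.pos_of_ne_zero h2.1
  have hfix : ∀ j : ℕ, 0 < finrank ℚ (fix (rep (g ^ j))) := by
    intro j
    rw [Module.finrank_pos_iff]
    refine ⟨⟨⟨toV v, ?_⟩, 0, ?_⟩⟩
    · rw [mem_fix, rep_toV]
      congr 1
      induction j with
      | zero => rw [pow_zero, one_smul]
      | succ j ih => rw [pow_succ, mul_smul, hgv, ih]
    · intro h1
      apply hv
      apply toV_injective
      have h2 := congrArg Subtype.val h1
      rw [show toV (0 : leechLattice) = 0 from ?_]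
      · exact h2
      · funext i
        rfl
  refine kill (e := prof (rep g)) (fun d hd => dvd_prof _ hd) h ?_ ?_
  · rw [sum_prof g hN, ← hg, pow_orderOf_eq_one, fix_one]
  · intro c hc
    unfold cs1 at hc
    rcases List.mem_cons.1 hc with rfl | hc
    · dsimp only
      rw [sum_prof g hj0, List.mem_range'_1]
      refine ⟨hfix _, ?_⟩
      have h1 := Submodule.finrank_le (fix (rep (g ^ (N / (psOf N).prod))))
      rw [finrank_Sp] at h1
      omega
    · obtain ⟨p, hp, rfl⟩ := List.mem_map.1 hc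
      obtain ⟨hpp, hpN⟩ := psOf_prime hp
      have hj : 0 < N / p := Nat.div_pos (Nat.le_of_dvd hN hpN) hpp.pos
      dsimp only
      rw [sum_prof g hj, List.mem_filter, bne_iff_ne]
      refine ⟨mem_al hpp ?_, (hfix _).ne'⟩
      rw [orderOf_pow_of_dvd hj.ne' (by rw [hg]; exact Nat.div_dvd_of_dvd hpN), hg, Nat.div_div_self hpN hN.ne']

/-! ### The data -/

def K0 : List (ℕ × List (ℕ × List ℕ)) := [
  (64, [(64, [64]), (1, [1, 2, 4, 8, 16, 32])]),
  (81, [(81, [81]), (1, [1, 3, 9, 27])]),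
  (125, [(125, [125]), (1, [1, 5, 25])]),
  (49, [(49, [49]), (1, [1, 7])]),
  (55, [(55, [55]), (11, [11]), (5, [5]), (1, [1])]),
  (63, [(63, [63]), (7, [7, 21]), (9, [9]), (1, [1, 3])]),
  (65, [(65, [65]), (13, [13]), (5, [5]), (1, [1])]),
  (69, [(69, [69]), (23, [23]), (3, [3]), (1, [1])]),
  (75, [(75, [75]), (25, [25]), (3, [3, 15]), (1, [1, 5])]),
  (77, [(77, [77]), (11, [11]), (7, [7]), (1, [1])]),
  (88, [(88, [88]), (11, [11, 22, 44]), (8, [8]), (1, [1, 2, 4])]),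
  (91, [(91, [91]), (13, [13]), (7, [7]), (1, [1])]),
  (92, [(92, [92]), (23, [23, 46]), (4, [4]), (1, [1, 2])]),
  (96, [(96, [96]), (32, [32]), (3, [3, 6, 12, 24, 48]), (1, [1, 2, 4, 8, 16])]),
  (99, [(99, [99]), (11, [11, 33]), (9, [9]), (1, [1, 3])]),
  (100, [(100, [100]), (25, [25, 50]), (4, [4, 20]), (1, [1, 2, 5, 10])]),
  (104, [(104, [104]), (13, [13, 26, 52]), (8, [8]), (1, [1, 2, 4])]),
  (105, [(105, [105]), (35, [35]), (21, [21]), (15, [15]), (7, [7]), (5, [5]), (3, [3]), (1, [1])]),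
  (108, [(108, [108]), (27, [27, 54]), (4, [4, 12, 36]), (1, [1, 2, 3, 6, 9, 18])]),
  (112, [(112, [112]), (16, [16]), (7, [7, 14, 28, 56]), (1, [1, 2, 4, 8])]),
  (115, [(115, [115]), (23, [23]), (5, [5]), (1, [1])]),
  (117, [(117, [117]), (13, [13, 39]), (9, [9]), (1, [1, 3])]),
  (132, [(132, [132]), (33, [33, 66]), (44, [44]), (11, [11, 22]), (12, [12]), (3, [3, 6]), (4, [4]), (1, [1, 2])]),
  (135, [(135, [135]), (27, [27]), (5, [5, 15, 45]), (1, [1, 3, 9])]),
  (140, [(140, [140]), (35, [35, 70]), (28, [28]), (20, [20]), (7, [7, 14]), (5, [5, 10]), (4, [4]), (1, [1, 2])]),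
  (143, [(143, [143]), (13, [13]), (11, [11]), (1, [1])]),
  (156, [(156, [156]), (39, [39, 78]), (52, [52]), (13, [13, 26]), (12, [12]), (3, [3, 6]), (4, [4]), (1, [1, 2])]),
  (160, [(160, [160]), (32, [32]), (5, [5, 10, 20, 40, 80]), (1, [1, 2, 4, 8, 16])]),
  (161, [(161, [161]), (23, [23]), (7, [7]), (1, [1])]),
  (168, [(168, [168]), (56, [56]), (21, [21, 42, 84]), (24, [24]), (7, [7, 14, 28]), (8, [8]), (3, [3, 6, 12]), (1, [1, 2, 4])]),
  (175, [(175, [175]), (25, [25]), (7, [7, 35]), (1, [1, 5])]),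
  (180, [(180, [180]), (45, [45, 90]), (36, [36]), (20, [20, 60]), (9, [9, 18]), (5, [5, 10, 15, 30]), (4, [4, 12]), (1, [1, 2, 3, 6])]),
  (253, [(253, [253]), (23, [23]), (11, [11]), (1, [1])]),
  (299, [(299, [299]), (23, [23]), (13, [13]), (1, [1])])]

def K1 : List (ℕ × List (ℕ × List ℕ)) := [
  (13, [(13, [13]), (1, [1])]),
  (33, [(33, [33]), (11, [11]), (3, [3]), (1, [1])]),
  (35, [(35, [35]), (7, [7]), (5, [5]), (1, [1])]),
  (44, [(44, [44]), (11, [11, 22]), (4, [4]), (1, [1, 2])]),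
  (45, [(45, [45]), (9, [9]), (5, [5, 15]), (1, [1, 3])]),
  (46, [(23, [23]), (46, [46]), (1, [1]), (2, [2])]),
  (50, [(25, [25]), (50, [50]), (1, [1, 5]), (2, [2, 10])]),
  (54, [(27, [27]), (54, [54]), (1, [1, 3, 9]), (2, [2, 6, 18])]),
  (56, [(56, [56]), (7, [7, 14, 28]), (8, [8]), (1, [1, 2, 4])]),
  (80, [(80, [80]), (16, [16]), (5, [5, 10, 20, 40]), (1, [1, 2, 4, 8])]),
  (84, [(84, [84]), (21, [21, 42]), (28, [28]), (7, [7, 14]), (12, [12]), (3, [3, 6]), (4, [4]), (1, [1, 2])]),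
  (120, [(120, [120]), (40, [40]), (15, [15, 30, 60]), (24, [24]), (5, [5, 10, 20]), (8, [8]), (3, [3, 6, 12]), (1, [1, 2, 4])])]

private theorem _root_.Cfsg.Agent.KObc00191.e0.{ku, kv} {α : Type kv} {M : List α → Sort ku} (φ : ∀ l, M l) {z : M List.nil} {s : ∀ a l, M l → M (List.cons a l)} (h0 : φ List.nil = z) (hs : ∀ a l, φ (List.cons a l) = s a l (φ l)) (l : List α) : φ l = @List.rec α M z s l := List.rec h0 (fun a l ih => (hs a l).trans (congrArg (s a l) ih)) l
private noncomputable def _root_.Cfsg.Agent.KObc00191.k1.{ku0} : type_of% @List.all.{ku0} := @(fun x0 x1 x2 => @List.rec.{(ku0+1), ku0} @x0 @(fun x3 => (@x0 → @Bool) → @Bool) @(fun x3 => @Bool.true) @(fun x3 x4 x5 x6 => @Bool.rec.{1} @(fun x7 => @Bool) @Bool.false (@x5 @x6) (@x6 @x3)) @x1 @x2)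
private theorem _root_.Cfsg.Agent.KObc00191.e1.{ku0} : @List.all.{ku0} = @_root_.Cfsg.Agent.KObc00191.k1.{ku0} := by delta _root_.Cfsg.Agent.KObc00191.k1; funext a0 a1 a2; refine (congrFun (_root_.Cfsg.Agent.KObc00191.e0 (fun a1 a2 => @List.all.{ku0} a0 a1 a2) ?_ (fun c0 c1 => ?_) a1) a2 :) <;> (rfl')
private noncomputable def _root_.Cfsg.Agent.KObc00191.oEq.{ku} (α : Sort ku) (a b : Nat) (f t : α) : α := @Decidable.rec (a = b) (fun _ => α) (fun _ => f) (fun _ => t) (Nat.decEq a b)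
private noncomputable def _root_.Cfsg.Agent.KObc00191.k2.{ku} (α : Sort ku) (a b : Nat) (f t : α) : α := @Bool.rec (fun _ => α) f t (Nat.beq a b)
private theorem _root_.Cfsg.Agent.KObc00191.e2.{ku} : @_root_.Cfsg.Agent.KObc00191.oEq.{ku} = @_root_.Cfsg.Agent.KObc00191.k2.{ku} := funext fun α => funext fun a => funext fun b => funext fun f => funext fun t => by delta _root_.Cfsg.Agent.KObc00191.oEq _root_.Cfsg.Agent.KObc00191.k2; cases h : Nat.beq a b <;> cases Nat.decEq a b <;> rename_i g <;> first | rfl | exact absurd g (Nat.ne_of_beq_eq_false h) | exact absurd (Nat.eq_of_beq_eq_true h) g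
private noncomputable def _root_.Cfsg.Agent.KObc00191.k3.{ku0} : type_of% @List.elem.{ku0} := @(fun x0 x1 x2 x3 => @List.rec.{1, ku0} @x0 @(fun x4 => @Bool) @Bool.false @(fun x4 x5 x6 => @Bool.rec.{1} @(fun x7 => @Bool) @x6 @Bool.true (@BEq.beq.{ku0} _ @x1 @x2 @x4)) @x3)
private theorem _root_.Cfsg.Agent.KObc00191.e3.{ku0} : @List.elem.{ku0} = @_root_.Cfsg.Agent.KObc00191.k3.{ku0} := by delta _root_.Cfsg.Agent.KObc00191.k3; funext a0 a1 a2 a3; refine (_root_.Cfsg.Agent.KObc00191.e0 (fun a3 => @List.elem.{ku0} a0 a1 a2 a3) ?_ (fun c0 c1 => ?_) a3 :) <;> (rfl')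
private noncomputable def _root_.Cfsg.Agent.KObc00191.k4.{ku0} : type_of% @List.length.{ku0} := @(fun x0 x1 => @List.rec.{1, ku0} @x0 @(fun x2 => ℕ) (nat_lit 0) @(fun x2 x3 x4 => @Nat.add @x4 (nat_lit 1)) @x1)
private theorem _root_.Cfsg.Agent.KObc00191.e4.{ku0} : @List.length.{ku0} = @_root_.Cfsg.Agent.KObc00191.k4.{ku0} := by delta _root_.Cfsg.Agent.KObc00191.k4; funext a0 a1; refine (_root_.Cfsg.Agent.KObc00191.e0 (fun a1 => @List.length.{ku0} a0 a1) ?_ (fun c0 c1 => ?_) a1 :) <;> (rfl')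
private noncomputable def _root_.Cfsg.Agent.KObc00191.k5.{ku0} : type_of% @List.filter.{ku0} := @(fun x0 x1 x2 => @List.rec.{(ku0+1), ku0} @x0 @(fun x3 => @List.{ku0} @x0) [] @(fun x3 x4 x5 => @Bool.rec.{(ku0+1)} @(fun x6 => @List.{ku0} @x0) @x5 (@x3 :: @x5) (@x1 @x3)) @x2)
private theorem _root_.Cfsg.Agent.KObc00191.e5.{ku0} : @List.filter.{ku0} = @_root_.Cfsg.Agent.KObc00191.k5.{ku0} := by delta _root_.Cfsg.Agent.KObc00191.k5; funext a0 a1 a2; refine (_root_.Cfsg.Agent.KObc00191.e0 (fun a2 => @List.filter.{ku0} a0 a1 a2) ?_ (fun c0 c1 => ?_) a2 :) <;> (rfl')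
private theorem _root_.Cfsg.Agent.KObc00191.e6.{ku} {M : Nat → Sort ku} (φ : ∀ n, M n) {z : M Nat.zero} {s : ∀ n, M n → M (Nat.succ n)} (h0 : φ Nat.zero = z) (hs : ∀ n, φ (Nat.succ n) = s n (φ n)) (n : Nat) : φ n = @Nat.rec M z s n := Nat.rec h0 (fun n ih => (hs n).trans (congrArg (s n) ih)) n
private noncomputable def _root_.Cfsg.Agent.KObc00191.k7 : type_of% @List.range.loop := @(fun x0 x1 => @Nat.rec.{1} @(fun x2 => (@List.{0} ℕ) → @List.{0} ℕ) @(fun x2 => @x2) @(fun x2 x3 x4 => @x3 (@x2 :: @x4)) @x0 @x1)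
private theorem _root_.Cfsg.Agent.KObc00191.e7 : @List.range.loop = @_root_.Cfsg.Agent.KObc00191.k7 := by delta _root_.Cfsg.Agent.KObc00191.k7; funext a0 a1; refine (congrFun (_root_.Cfsg.Agent.KObc00191.e6 (fun a0 a1 => @List.range.loop a0 a1) ?_ (fun c0 => ?_) a0) a1 :) <;> (rfl')
private noncomputable def _root_.Cfsg.Agent.KObc00191.k8 : (by first | exact type_of% @Cfsg.Agent.H536.TC.tot | exact Unit : Sort _) := by first | (refine @Subtype.val _ (fun g => @Cfsg.Agent.H536.TC.tot = @g) (@Subtype.mk _ _ (@(fun x0 => @Cfsg.Agent.KObc00191.k4.{0} _ (@Cfsg.Agent.KObc00191.k5.{0} _ @(fun x1 => @Cfsg.Agent.KObc00191.k2.{1} @Bool (@Nat.gcd @x0 @x1) (nat_lit 1) @Bool.false @Bool.true) (@Cfsg.Agent.KObc00191.k7 @x0 [])))) ?_); rewrite [← Cfsg.Agent.KObc00191.e7, ← Cfsg.Agent.KObc00191.e2.{1}, ← Cfsg.Agent.KObc00191.e5.{0}, ← Cfsg.Agent.KObc00191.e4.{0}]; rfl') | exact @Cfsg.Agent.H536.TC.tot | exact ()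
private theorem _root_.Cfsg.Agent.KObc00191.e8 : (by first | exact @Cfsg.Agent.H536.TC.tot = @_root_.Cfsg.Agent.KObc00191.k8 | exact True : Prop) := by first | (delta _root_.Cfsg.Agent.KObc00191.k8; exact @Subtype.property _ (fun g => @Cfsg.Agent.H536.TC.tot = @g) _) | rfl | trivial
private noncomputable def _root_.Cfsg.Agent.KObc00191.k9.{ku0} : type_of% @List.any.{ku0} := @(fun x0 x1 x2 => @List.rec.{(ku0+1), ku0} @x0 @(fun x3 => (@x0 → @Bool) → @Bool) @(fun x3 => @Bool.false) @(fun x3 x4 x5 x6 => @Bool.rec.{1} @(fun x7 => @Bool) (@x5 @x6) @Bool.true (@x6 @x3)) @x1 @x2)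
private theorem _root_.Cfsg.Agent.KObc00191.e9.{ku0} : @List.any.{ku0} = @_root_.Cfsg.Agent.KObc00191.k9.{ku0} := by delta _root_.Cfsg.Agent.KObc00191.k9; funext a0 a1 a2; refine (congrFun (_root_.Cfsg.Agent.KObc00191.e0 (fun a1 a2 => @List.any.{ku0} a0 a1 a2) ?_ (fun c0 c1 => ?_) a1) a2 :) <;> (rfl')
private noncomputable def _root_.Cfsg.Agent.KObc00191.k10.{ku0, ku1} : type_of% @List.map.{ku0, ku1} := @(fun x0 x1 x2 x3 => @List.rec.{(ku1+1), ku0} @x0 @(fun x4 => @List.{ku1} @x1) [] @(fun x4 x5 x6 => (@x2 @x4) :: @x6) @x3)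
private theorem _root_.Cfsg.Agent.KObc00191.e10.{ku0, ku1} : @List.map.{ku0, ku1} = @_root_.Cfsg.Agent.KObc00191.k10.{ku0, ku1} := by delta _root_.Cfsg.Agent.KObc00191.k10; funext a0 a1 a2 a3; refine (_root_.Cfsg.Agent.KObc00191.e0 (fun a3 => @List.map.{ku0, ku1} a0 a1 a2 a3) ?_ (fun c0 c1 => ?_) a3 :) <;> (rfl')
private noncomputable def _root_.Cfsg.Agent.KObc00191.oB.{ku} (α : Sort ku) (c : Bool) (f t : α) : α := @Decidable.rec (c = true) (fun _ => α) (fun _ => f) (fun _ => t) (instDecidableEqBool c true)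
private noncomputable def _root_.Cfsg.Agent.KObc00191.k11.{ku} (α : Sort ku) (c : Bool) (f t : α) : α := @Bool.rec (fun _ => α) f t c
private theorem _root_.Cfsg.Agent.KObc00191.e11.{ku} : @_root_.Cfsg.Agent.KObc00191.oB.{ku} = @_root_.Cfsg.Agent.KObc00191.k11.{ku} := funext fun α => funext fun c => funext fun f => funext fun t => by cases c <;> rfl
private noncomputable def _root_.Cfsg.Agent.KObc00191.k12 : (by first | exact type_of% @Cfsg.Agent.H536.TC.flag | exact Unit : Sort _) := by first | (refine @Subtype.val _ (fun g => @Cfsg.Agent.H536.TC.flag = @g) (@Subtype.mk _ _ (@(fun x0 x1 => @Cfsg.Agent.KObc00191.k1.{0} _ (@Prod.snd.{0, 0} _ _ @x1) @(fun x2 => @Cfsg.Agent.KObc00191.k2.{1} @Bool (@Nat.mod @x0 @x2) (nat_lit 0) @Bool.false @Bool.true))) ?_); rewrite [← Cfsg.Agent.KObc00191.e2.{1}, ← Cfsg.Agent.KObc00191.e1.{0}]; rfl') | exact @Cfsg.Agent.H536.TC.flag | exact ()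
private theorem _root_.Cfsg.Agent.KObc00191.e12 : (by first | exact @Cfsg.Agent.H536.TC.flag = @_root_.Cfsg.Agent.KObc00191.k12 | exact True : Prop) := by first | (delta _root_.Cfsg.Agent.KObc00191.k12; exact @Subtype.property _ (fun g => @Cfsg.Agent.H536.TC.flag = @g) _) | rfl | trivial
private noncomputable def _root_.Cfsg.Agent.KObc00191.k13 : (by first | exact type_of% @Cfsg.Agent.H536.TC.step | exact Unit : Sort _) := by first | (refine @Subtype.val _ (fun g => @Cfsg.Agent.H536.TC.step = @g) (@Subtype.mk _ _ (@(fun x0 x1 x2 => @Cfsg.Agent.KObc00191.k11.{1} (ℕ × (ℕ × (@List.{0} ℕ))) (@Cfsg.Agent.KObc00191.k12 (@Prod.fst.{0, 0} _ _ @x2) @x0) @x2 ((@Prod.fst.{0, 0} _ _ @x2, (@Nat.add (@Prod.fst.{0, 0} _ _ (@Prod.snd.{0, 0} _ _ @x2)) @x1, @Prod.snd.{0, 0} _ _ (@Prod.snd.{0, 0} _ _ @x2)))))) ?_); rewrite [← Cfsg.Agent.KObc00191.e12, ← Cfsg.Agent.KObc00191.e11.{1}]; (try delta Cfsg.Agent.H536.TC.step); (try generalize @Cfsg.Agent.H536.TC.flag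 = g0); rfl') | exact @Cfsg.Agent.H536.TC.step | exact ()
private theorem _root_.Cfsg.Agent.KObc00191.e13 : (by first | exact @Cfsg.Agent.H536.TC.step = @_root_.Cfsg.Agent.KObc00191.k13 | exact True : Prop) := by first | (delta _root_.Cfsg.Agent.KObc00191.k13; exact @Subtype.property _ (fun g => @Cfsg.Agent.H536.TC.step = @g) _) | rfl | trivial
private noncomputable def _root_.Cfsg.Agent.KObc00191.k14 : (by first | exact type_of% @Cfsg.Agent.H536.TC.srch | exact Unit : Sort _) := by first | (refine @Subtype.val _ (fun g => @Cfsg.Agent.H536.TC.srch = @g) (@Subtype.mk _ _ (@(fun x0 x1 x2 => @List.rec.{1, 0} (ℕ × (@List.{0} ℕ)) @(fun x3 => ℕ → (@List.{0} (ℕ × (ℕ × (@List.{0} ℕ)))) → @Bool) @(fun x3 x4 => @Bool.rec.{1} @(fun x5 => @Bool) @Bool.false (@Cfsg.Agent.KObc00191.k1.{0} _ @x4 @(fun x5 => @Cfsg.Agent.KObc00191.k3.{0} _ (@BEq.mk.{0} _ @(fun x6 x7 => @Cfsg.Agent.KObc00191.k2.{1} @Bool @x6 @x7 @Bool.false @Bool.true)) (@Prod.fst.{0, 0} _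 _ (@Prod.snd.{0, 0} _ _ @x5)) (@Prod.snd.{0, 0} _ _ (@Prod.snd.{0, 0} _ _ @x5)))) (@Cfsg.Agent.KObc00191.k2.{1} @Bool @x3 (nat_lit 0) @Bool.false @Bool.true)) @(fun x3 x4 x5 x6 x7 => (let x8 : ℕ := @Cfsg.Agent.KObc00191.k8 (@Prod.fst.{0, 0} _ _ @x3); @Cfsg.Agent.KObc00191.k9.{0} _ (@Cfsg.Agent.KObc00191.k7 (@Nat.add (@Nat.div @x6 @x8) (nat_lit 1)) []) @(fun x9 => (let x10 : @List.{0} (ℕ × (ℕ × (@List.{0} ℕ))) := @Cfsg.Agent.KObc00191.k10.{0, 0} _ _ (@Cfsg.Agent.KObc00191.k13 @x3 (@Nat.mul @x8 @x9)) @x7; @Bool.rec.{1} @(fun x11 => @Bool) @Bool.false (@x5 (@Nat.sub @x6 (@Nat.mul @x8 @x9)) @x10) (@Cfsg.Agent.KObc00191.k1.{0} _ @x10 @(fun x11 => @Cfsg.Agent.KObc00191.k9.{0} _ (@Prod.snd.{0, 0} _ _ (@Prod.snd.{0, 0} _ _ @x11)) @(fun x12 => @Nat.ble (@Prod.fst.{0, 0} _ _ (@Prod.snd.{0, 0} _ _ @x11)) @x12))))))) @x0 @x1 @x2)) ?_); rewrite [← Cfsg.Agent.KObc00191.e13, ← Cfsg.Agent.KObc00191.e10.{0, 0}, ← Cfsg.Agent.KObc00191.e7, ← Cfsg.Agent.KObc00191.e9.{0},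 ← Cfsg.Agent.KObc00191.e8, ← Cfsg.Agent.KObc00191.e2.{1}, ← Cfsg.Agent.KObc00191.e3.{0}, ← Cfsg.Agent.KObc00191.e1.{0}]; funext a0 a1 a2; refine (congrFun (congrFun (_root_.Cfsg.Agent.KObc00191.e0 (fun a0 a1 a2 => @Cfsg.Agent.H536.TC.srch a0 a1 a2) ?_ (fun c0 c1 => ?_) a0) a1) a2 :) <;> ((try delta Cfsg.Agent.H536.TC.srch Cfsg.Agent.H536.TC.srch._f); (try generalize @Cfsg.Agent.H536.TC.tot = g0); (try generalize @Cfsg.Agent.H536.TC.step = g1); rfl')) | exact @Cfsg.Agent.H536.TC.srch | exact ()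
private theorem _root_.Cfsg.Agent.KObc00191.e14 : (by first | exact @Cfsg.Agent.H536.TC.srch = @_root_.Cfsg.Agent.KObc00191.k14 | exact True : Prop) := by first | (delta _root_.Cfsg.Agent.KObc00191.k14; exact @Subtype.property _ (fun g => @Cfsg.Agent.H536.TC.srch = @g) _) | rfl | trivial
private noncomputable def _root_.Cfsg.Agent.KObc00191.k15.{ku0} : type_of% @List.erase.{ku0} := @(fun x0 x1 x2 x3 => @List.rec.{(ku0+1), ku0} @x0 @(fun x4 => @x0 → @List.{ku0} @x0) @(fun x4 => []) @(fun x4 x5 x6 x7 => @Bool.rec.{(ku0+1)} @(fun x8 => @List.{ku0} @x0) (@x4 :: (@x6 @x7)) @x5 (@BEq.beq.{ku0} _ @x1 @x4 @x7)) @x2 @x3)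
private theorem _root_.Cfsg.Agent.KObc00191.e15.{ku0} : @List.erase.{ku0} = @_root_.Cfsg.Agent.KObc00191.k15.{ku0} := by delta _root_.Cfsg.Agent.KObc00191.k15; funext a0 a1 a2 a3; refine (congrFun (_root_.Cfsg.Agent.KObc00191.e0 (fun a2 a3 => @List.erase.{ku0} a0 a1 a2 a3) ?_ (fun c0 c1 => ?_) a2) a3 :) <;> (rfl')
private noncomputable def _root_.Cfsg.Agent.KObc00191.k16.{ku0} : type_of% @List.isPerm.{ku0} := @(fun x0 x1 x2 x3 => @List.rec.{(ku0+1), ku0} @x0 @(fun x4 => (@List.{ku0} @x0) → @Bool) @(fun x4 => @List.rec.{1, ku0} @x0 @(fun x5 => @Bool) @Bool.true @(fun x5 x6 x7 => @Bool.false) @x4) @(fun x4 x5 x6 x7 => @Bool.rec.{1} @(fun x8 => @Bool) @Bool.false (@x6 (@Cfsg.Agent.KObc00191.k15.{ku0} _ @x1 @x7 @x4)) (@Cfsg.Agent.KObc00191.k3.{ku0} _ @x1 @x4 @x7)) @x2 @x3)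
private theorem _root_.Cfsg.Agent.KObc00191.e16.{ku0} : @List.isPerm.{ku0} = @_root_.Cfsg.Agent.KObc00191.k16.{ku0} := by delta _root_.Cfsg.Agent.KObc00191.k16; rewrite [← Cfsg.Agent.KObc00191.e3.{ku0}, ← Cfsg.Agent.KObc00191.e15.{ku0}]; funext a0 a1 a2 a3; refine (congrFun (_root_.Cfsg.Agent.KObc00191.e0 (fun a2 a3 => @List.isPerm.{ku0} a0 a1 a2 a3) ?_ (fun c0 c1 => ?_) a2) a3 :) <;> (rfl')
private noncomputable def _root_.Cfsg.Agent.KObc00191.k17.{ku0} : type_of% @List.append.{ku0} := @(fun x0 x1 x2 => @List.rec.{(ku0+1), ku0} @x0 @(fun x3 => (@List.{ku0} @x0) → @List.{ku0} @x0) @(fun x3 => @x3) @(fun x3 x4 x5 x6 => @x3 :: (@x5 @x6)) @x1 @x2)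
private theorem _root_.Cfsg.Agent.KObc00191.e17.{ku0} : @List.append.{ku0} = @_root_.Cfsg.Agent.KObc00191.k17.{ku0} := by delta _root_.Cfsg.Agent.KObc00191.k17; funext a0 a1 a2; refine (congrFun (_root_.Cfsg.Agent.KObc00191.e0 (fun a1 a2 => @List.append.{ku0} a0 a1 a2) ?_ (fun c0 c1 => ?_) a1) a2 :) <;> (rfl')
private noncomputable def _root_.Cfsg.Agent.KObc00191.k18.{ku0} : type_of% @List.flatten.{ku0} := @(fun x0 x1 => @List.rec.{(ku0+1), ku0} (@List.{ku0} @x0) @(fun x2 => @List.{ku0} @x0) [] @(fun x2 x3 x4 => @Cfsg.Agent.KObc00191.k17.{ku0} _ @x2 @x4) @x1)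
private theorem _root_.Cfsg.Agent.KObc00191.e18.{ku0} : @List.flatten.{ku0} = @_root_.Cfsg.Agent.KObc00191.k18.{ku0} := by delta _root_.Cfsg.Agent.KObc00191.k18; rewrite [← Cfsg.Agent.KObc00191.e17.{ku0}]; funext a0 a1; refine (_root_.Cfsg.Agent.KObc00191.e0 (fun a1 => @List.flatten.{ku0} a0 a1) ?_ (fun c0 c1 => ?_) a1 :) <;> (rfl')
private noncomputable def _root_.Cfsg.Agent.KObc00191.k19 : (by first | exact type_of% @Cfsg.Agent.H536.TC.divs | exact Unit : Sort _) := by first | (refine @Subtype.val _ (fun g => @Cfsg.Agent.H536.TC.divs = @g) (@Subtype.mk _ _ (@(fun x0 => @Cfsg.Agent.KObc00191.k5.{0} _ @(fun x1 => @Bool.rec.{1} @(fun x2 => @Bool) @Bool.false (@Cfsg.Agent.KObc00191.k2.{1} @Bool (@Nat.mod @x0 @x1) (nat_lit 0) @Bool.false @Bool.true) (@Bool.rec.{1} @(fun x2 => @Bool) @Bool.true @Bool.false (@Cfsg.Agent.KObc00191.k2.{1} @Bool @x1 (nat_lit 0) @Bool.false @Bool.true))) (@Cfsg.Agent.KObc00191.k7 (@Nat.add @x0 (nat_lit 1)) [])))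 ?_); rewrite [← Cfsg.Agent.KObc00191.e7, ← Cfsg.Agent.KObc00191.e2.{1}, ← Cfsg.Agent.KObc00191.e5.{0}]; rfl') | exact @Cfsg.Agent.H536.TC.divs | exact ()
private theorem _root_.Cfsg.Agent.KObc00191.e19 : (by first | exact @Cfsg.Agent.H536.TC.divs = @_root_.Cfsg.Agent.KObc00191.k19 | exact True : Prop) := by first | (delta _root_.Cfsg.Agent.KObc00191.k19; exact @Subtype.property _ (fun g => @Cfsg.Agent.H536.TC.divs = @g) _) | rfl | trivial
private noncomputable def _root_.Cfsg.Agent.KObc00191.k20 : (by first | exact type_of% @Cfsg.Agent.H536.TC.chk | exact Unit : Sort _) := by first | (refine @Subtype.val _ (fun g => @Cfsg.Agent.H536.TC.chk = @g) (@Subtype.mk _ _ (@(fun x0 x1 x2 x3 => @Bool.rec.{1} @(fun x4 => @Bool) @Bool.false (@Bool.rec.{1} @(fun x4 => @Bool) @Bool.true @Bool.false (@Cfsg.Agent.KObc00191.k14 @x2 @x1 (@Cfsg.Agent.KObc00191.k10.{0, 0} _ _ @(fun x4 => (@Prod.fst.{0, 0} _ _ @x4, (nat_lit 0, @Prod.snd.{0, 0} _ _ @x4))) @x3)))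 (@Bool.rec.{1} @(fun x4 => @Bool) @Bool.false (@Cfsg.Agent.KObc00191.k1.{0} _ @x3 @(fun x4 => @Bool.rec.{1} @(fun x5 => @Bool) @Bool.false (@Cfsg.Agent.KObc00191.k16.{0} _ (@BEq.mk.{0} _ @(fun x5 x6 => @Cfsg.Agent.KObc00191.k2.{1} @Bool @x5 @x6 @Bool.false @Bool.true)) (@Cfsg.Agent.KObc00191.k18.{0} _ (@Cfsg.Agent.KObc00191.k10.{0, 0} _ _ @(fun x5 => @Prod.snd.{0, 0} _ _ @x5) (@Cfsg.Agent.KObc00191.k5.{0} _ (@Cfsg.Agent.KObc00191.k12 (@Prod.fst.{0, 0} _ _ @x4)) @x2))) (@Cfsg.Agent.KObc00191.k19 (@Prod.fst.{0, 0} _ _ @x4))) (@Bool.rec.{1} @(fun x5 => @Bool) @Bool.true @Bool.false (@Cfsg.Agent.KObc00191.k2.{1} @Bool (@Prod.fst.{0, 0} _ _ @x4) (nat_lit 0) @Bool.false @Bool.true)))) (@Bool.rec.{1} @(fun x4 => @Bool) @Bool.false (@Cfsg.Agent.KObc00191.k16.{0} _ (@BEq.mk.{0} _ @(fun x4 x5 => @Cfsg.Agent.KObc00191.k2.{1} @Bool @x4 @x5 @Bool.false @Bool.true)) (@Cfsg.Agent.KObc00191.k18.{0} _ (@Cfsg.Agent.KObc00191.k10.{0, 0} _ _ @(fun x4 => @Prod.snd.{0,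 0} _ _ @x4) @x2)) (@Cfsg.Agent.KObc00191.k19 @x0)) (@Bool.rec.{1} @(fun x4 => @Bool) @Bool.false (@Cfsg.Agent.KObc00191.k1.{0} _ @x2 @(fun x4 => @Bool.rec.{1} @(fun x5 => @Bool) @Bool.false (@Cfsg.Agent.KObc00191.k1.{0} _ (@Prod.snd.{0, 0} _ _ @x4) @(fun x5 => @Bool.rec.{1} @(fun x6 => @Bool) @Bool.false (@Cfsg.Agent.KObc00191.k2.{1} @Bool (@Nat.mod @x5 (@Prod.fst.{0, 0} _ _ @x4)) (nat_lit 0) @Bool.false @Bool.true) (@Bool.rec.{1} @(fun x6 => @Bool) @Bool.true @Bool.false (@Cfsg.Agent.KObc00191.k2.{1} @Bool @x5 (nat_lit 0) @Bool.false @Bool.true)))) (@Bool.rec.{1} @(fun x5 => @Bool) @Bool.true @Bool.false (@Cfsg.Agent.KObc00191.k2.{1} @Bool (@Prod.fst.{0, 0} _ _ @x4) (nat_lit 0) @Bool.false @Bool.true)))) (@Bool.rec.{1} @(fun x4 => @Bool) @Bool.true @Bool.false (@Cfsg.Agent.KObc00191.k2.{1} @Bool @x0 (nat_lit 0) @Bool.false @Bool.true))))))) ?_); rewrite [← Cfsg.Agent.KObc00191.e19, ← Cfsg.Agent.KObc00191.e12, ← Cfsg.Agent.KObc00191.e5.{0},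 ← Cfsg.Agent.KObc00191.e18.{0}, ← Cfsg.Agent.KObc00191.e2.{1}, ← Cfsg.Agent.KObc00191.e16.{0}, ← Cfsg.Agent.KObc00191.e1.{0}, ← Cfsg.Agent.KObc00191.e10.{0, 0}, ← Cfsg.Agent.KObc00191.e14]; (try delta Cfsg.Agent.H536.TC.chk); (try generalize @Cfsg.Agent.H536.TC.srch = g0); (try generalize @Cfsg.Agent.H536.TC.flag = g1); (try generalize @Cfsg.Agent.H536.TC.divs = g2); rfl') | exact @Cfsg.Agent.H536.TC.chk | exact ()
private theorem _root_.Cfsg.Agent.KObc00191.e20 : (by first | exact @Cfsg.Agent.H536.TC.chk = @_root_.Cfsg.Agent.KObc00191.k20 | exact True : Prop) := by first | (delta _root_.Cfsg.Agent.KObc00191.k20; exact @Subtype.property _ (fun g => @Cfsg.Agent.H536.TC.chk = @g) _) | rfl | trivial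
private noncomputable def _root_.Cfsg.Agent.KObc00191.k21 : type_of% @Nat.decEq := @(fun x0 x1 => @Bool.rec.{1} @(fun x2 => (@Eq.{1} _ (@Nat.beq @x0 @x1) @x2) → @Decidable (@Eq.{1} _ @x0 @x1)) @(fun x2 => @Decidable.isFalse _ (@Nat.ne_of_beq_eq_false _ _ @x2)) @(fun x2 => @Decidable.isTrue _ (@Nat.eq_of_beq_eq_true _ _ @x2)) (@Nat.beq @x0 @x1) (@Eq.refl.{1} _ (@Nat.beq @x0 @x1)))
private theorem _root_.Cfsg.Agent.KObc00191.e21 : @Nat.decEq = @_root_.Cfsg.Agent.KObc00191.k21 := by delta _root_.Cfsg.Agent.KObc00191.k21; rfl'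
private noncomputable def _root_.Cfsg.Agent.KObc00191.k22 : (by first | exact type_of% @Cfsg.Agent.H536.TC.al | exact Unit : Sort _) := by first | (refine @Subtype.val _ (fun g => @Cfsg.Agent.H536.TC.al = @g) (@Subtype.mk _ _ (@(fun x0 => @Decidable.rec.{1} _ @(fun x1 => @List.{0} ℕ) @(fun x1 => @Decidable.rec.{1} _ @(fun x2 => @List.{0} ℕ) @(fun x2 => @Decidable.rec.{1} _ @(fun x3 => @List.{0} ℕ) @(fun x3 => @Decidable.rec.{1} _ @(fun x4 => @List.{0} ℕ) @(fun x4 => @Decidable.rec.{1} _ @(fun x5 => @List.{0} ℕ) @(fun x5 => @Decidable.rec.{1} _ @(fun x6 => @List.{0} ℕ) @(fun x6 => @Decidable.rec.{1} _ @(fun x7 => @List.{0} ℕ) @(fun x7 => @Cfsg.Agent.KObc00191.k7 (nat_lit 25) []) @(fun x7 => @Eq.rec.{1, 1} ℕ (nat_lit 23) @(fun x8 x9 => @List.{0} ℕ) ((nat_lit 2) :: []) @x0 (@Eq.symm.{1} _ _ _ @x7)) (@Cfsg.Agent.KObc00191.k21 @x0 (nat_lit 23))) @(fun x6 => @Eq.rec.{1, 1} ℕ (nat_lit 13) @(fun x7 x8 => @List.{0} ℕ) ((nat_lit 0) :: []) @x0 (@Eq.symm.{1}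 _ _ _ @x6)) (@Cfsg.Agent.KObc00191.k21 @x0 (nat_lit 13))) @(fun x5 => @Eq.rec.{1, 1} ℕ (nat_lit 11) @(fun x6 x7 => @List.{0} ℕ) ((nat_lit 4) :: []) @x0 (@Eq.symm.{1} _ _ _ @x5)) (@Cfsg.Agent.KObc00191.k21 @x0 (nat_lit 11))) @(fun x4 => @Eq.rec.{1, 1} ℕ (nat_lit 7) @(fun x5 x6 => @List.{0} ℕ) ((nat_lit 0) :: ((nat_lit 6) :: [])) @x0 (@Eq.symm.{1} _ _ _ @x4)) (@Cfsg.Agent.KObc00191.k21 @x0 (nat_lit 7))) @(fun x3 => @Eq.rec.{1, 1} ℕ (nat_lit 5) @(fun x4 x5 => @List.{0} ℕ) ((nat_lit 0) :: ((nat_lit 4) :: ((nat_lit 8) :: []))) @x0 (@Eq.symm.{1} _ _ _ @x3)) (@Cfsg.Agent.KObc00191.k21 @x0 (nat_lit 5))) @(fun x2 => @Eq.rec.{1, 1} ℕ (nat_lit 3) @(fun x3 x4 => @List.{0} ℕ) ((nat_lit 0) :: ((nat_lit 6) :: ((nat_lit 8) :: ((nat_lit 12) :: [])))) @x0 (@Eq.symm.{1} _ _ _ @x2)) (@Cfsg.Agent.KObc00191.k21 @x0 (nat_lit 3))) @(fun x1 => @Eq.rec.{1, 1} ℕ (nat_lit 2) @(fun x2 x3 => @List.{0} ℕ) ((nat_lit 0) :: ((nat_lit 8) :: ((nat_lit 12) :: ((nat_lit 16)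 :: [])))) @x0 (@Eq.symm.{1} _ _ _ @x1)) (@Cfsg.Agent.KObc00191.k21 @x0 (nat_lit 2)))) ?_); rewrite [← Cfsg.Agent.KObc00191.e21, ← Cfsg.Agent.KObc00191.e7]; rfl') | exact @Cfsg.Agent.H536.TC.al | exact ()
private theorem _root_.Cfsg.Agent.KObc00191.e22 : (by first | exact @Cfsg.Agent.H536.TC.al = @_root_.Cfsg.Agent.KObc00191.k22 | exact True : Prop) := by first | (delta _root_.Cfsg.Agent.KObc00191.k22; exact @Subtype.property _ (fun g => @Cfsg.Agent.H536.TC.al = @g) _) | rfl | trivial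
private noncomputable def _root_.Cfsg.Agent.KObc00191.k23 : (by first | exact type_of% @Cfsg.Agent.H536.TC.psOf | exact Unit : Sort _) := by first | (refine @Subtype.val _ (fun g => @Cfsg.Agent.H536.TC.psOf = @g) (@Subtype.mk _ _ (@(fun x0 => @Cfsg.Agent.KObc00191.k5.{0} _ @(fun x1 => @Cfsg.Agent.KObc00191.k2.{1} @Bool (@Nat.mod @x0 @x1) (nat_lit 0) @Bool.false @Bool.true) ((nat_lit 2) :: ((nat_lit 3) :: ((nat_lit 5) :: ((nat_lit 7) :: ((nat_lit 11) :: ((nat_lit 13) :: ((nat_lit 23) :: []))))))))) ?_); rewrite [← Cfsg.Agent.KObc00191.e2.{1}, ← Cfsg.Agent.KObc00191.e5.{0}]; rfl') | exact @Cfsg.Agent.H536.TC.psOf | exact ()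
private theorem _root_.Cfsg.Agent.KObc00191.e23 : (by first | exact @Cfsg.Agent.H536.TC.psOf = @_root_.Cfsg.Agent.KObc00191.k23 | exact True : Prop) := by first | (delta _root_.Cfsg.Agent.KObc00191.k23; exact @Subtype.property _ (fun g => @Cfsg.Agent.H536.TC.psOf = @g) _) | rfl | trivial
private noncomputable def _root_.Cfsg.Agent.KObc00191.k24 : (by first | exact type_of% @Cfsg.Agent.H536.TC.cs0 | exact Unit : Sort _) := by first | (refine @Subtype.val _ (fun g => @Cfsg.Agent.H536.TC.cs0 = @g) (@Subtype.mk _ _ (@(fun x0 => @Cfsg.Agent.KObc00191.k10.{0, 0} _ _ @(fun x1 => (@Nat.div @x0 @x1, @Cfsg.Agent.KObc00191.k22 @x1)) (@Cfsg.Agent.KObc00191.k23 @x0))) ?_); rewrite [← Cfsg.Agent.KObc00191.e23, ← Cfsg.Agent.KObc00191.e22, ← Cfsg.Agent.KObc00191.e10.{0, 0}]; (try delta Cfsg.Agent.H536.TC.cs0); (try generalize @Cfsg.Agent.H536.TC.al = g0); (try generalize @Cfsg.Agent.H536.TC.psOf = g1); rfl') | exact @Cfsg.Agent.H536.TC.cs0 | exact ()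
private theorem _root_.Cfsg.Agent.KObc00191.e24 : (by first | exact @Cfsg.Agent.H536.TC.cs0 = @_root_.Cfsg.Agent.KObc00191.k24 | exact True : Prop) := by first | (delta _root_.Cfsg.Agent.KObc00191.k24; exact @Subtype.property _ (fun g => @Cfsg.Agent.H536.TC.cs0 = @g) _) | rfl | trivial

theorem k0 : (K0.all fun x => chk x.1 24 x.2 (cs0 x.1)) = true := by (first | (rewrite [Cfsg.Agent.KObc00191.e1.{0}, Cfsg.Agent.KObc00191.e20, Cfsg.Agent.KObc00191.e24]; decide +kernel) | decide +kernel)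
private noncomputable def _root_.Cfsg.Agent.KObc00191.k25.{ku0, ku1} : type_of% @List.foldr.{ku0, ku1} := @(fun x0 x1 x2 x3 x4 => @List.rec.{(ku1+1), ku0} @x0 @(fun x5 => @x1) @x3 @(fun x5 x6 x7 => @x2 @x5 @x7) @x4)
private theorem _root_.Cfsg.Agent.KObc00191.e25.{ku0, ku1} : @List.foldr.{ku0, ku1} = @_root_.Cfsg.Agent.KObc00191.k25.{ku0, ku1} := by delta _root_.Cfsg.Agent.KObc00191.k25; funext a0 a1 a2 a3 a4; refine (_root_.Cfsg.Agent.KObc00191.e0 (fun a4 => @List.foldr.{ku0, ku1} a0 a1 a2 a3 a4) ?_ (fun c0 c1 => ?_) a4 :) <;> (rfl')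
private noncomputable def _root_.Cfsg.Agent.KObc00191.k26 : type_of% @List.range' := @(fun x0 x1 x2 => @Nat.rec.{1} @(fun x3 => ℕ → ℕ → @List.{0} ℕ) @(fun x3 x4 => []) @(fun x3 x4 x5 x6 => @x5 :: (@x4 (@Nat.add @x5 @x6) @x6)) @x1 @x0 @x2)
private theorem _root_.Cfsg.Agent.KObc00191.e26 : @List.range' = @_root_.Cfsg.Agent.KObc00191.k26 := by delta _root_.Cfsg.Agent.KObc00191.k26; funext a0 a1 a2; refine (congrFun (congrFun (_root_.Cfsg.Agent.KObc00191.e6 (fun a1 a0 a2 => @List.range' a0 a1 a2) ?_ (fun c0 => ?_) a1) a0) a2 :) <;> (rfl')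
private noncomputable def _root_.Cfsg.Agent.KObc00191.k27 : (by first | exact type_of% @Cfsg.Agent.H536.TC.cs1 | exact Unit : Sort _) := by first | (refine @Subtype.val _ (fun g => @Cfsg.Agent.H536.TC.cs1 = @g) (@Subtype.mk _ _ (@(fun x0 => ((@Nat.div @x0 (@Cfsg.Agent.KObc00191.k25.{0, 0} _ _ @(fun x1 x2 => @Nat.mul @x1 @x2) (nat_lit 1) (@Cfsg.Agent.KObc00191.k23 @x0)), @Cfsg.Agent.KObc00191.k26 (nat_lit 1) (nat_lit 24) (nat_lit 1))) :: (@Cfsg.Agent.KObc00191.k10.{0, 0} _ _ @(fun x1 => (@Nat.div @x0 @x1, @Cfsg.Agent.KObc00191.k5.{0} _ @(fun x2 => @Bool.rec.{1} @(fun x3 => @Bool) @Bool.true @Bool.false (@Cfsg.Agent.KObc00191.k2.{1} @Bool @x2 (nat_lit 0) @Bool.false @Bool.true)) (@Cfsg.Agent.KObc00191.k22 @x1))) (@Cfsg.Agent.KObc00191.k23 @x0)))) ?_); rewrite [← Cfsg.Agent.KObc00191.e22, ← Cfsg.Agent.KObc00191.e2.{1}, ← Cfsg.Agent.KObc00191.e5.{0}, ← Cfsg.Agent.KObc00191.e10.{0, 0}, ← Cfsg.Agent.KObc00191.e26, ← Cfsg.Agent.KObc00191.e23, ←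 Cfsg.Agent.KObc00191.e25.{0, 0}]; (try delta Cfsg.Agent.H536.TC.cs1); (try generalize @Cfsg.Agent.H536.TC.psOf = g0); (try generalize @Cfsg.Agent.H536.TC.al = g1); rfl') | exact @Cfsg.Agent.H536.TC.cs1 | exact ()
private theorem _root_.Cfsg.Agent.KObc00191.e27 : (by first | exact @Cfsg.Agent.H536.TC.cs1 = @_root_.Cfsg.Agent.KObc00191.k27 | exact True : Prop) := by first | (delta _root_.Cfsg.Agent.KObc00191.k27; exact @Subtype.property _ (fun g => @Cfsg.Agent.H536.TC.cs1 = @g) _) | rfl | trivial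

theorem k1 : (K1.all fun x => chk x.1 24 x.2 (cs1 x.1)) = true := by (first | (rewrite [Cfsg.Agent.KObc00191.e1.{0}, Cfsg.Agent.KObc00191.e20, Cfsg.Agent.KObc00191.e27]; decide +kernel) | decide +kernel)

/-- the orders that are not excluded -/
def L0 : List ℕ := [1, 2, 3, 4, 5, 6, 7, 8, 9, 10, 11, 12, 13, 14, 15, 16, 18, 20, 21, 22, 23, 24, 25, 26, 27, 28, 30, 32, 33, 35, 36, 39, 40, 42, 44, 45, 46, 48, 50, 52, 54, 56, 60, 66, 70, 72, 78, 80, 84, 90, 120, 144, 240]

/-- the orders that are not excluded for elements with fixed vectors -/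
def L1 : List ℕ := [1, 2, 3, 4, 5, 6, 7, 8, 9, 10, 11, 12, 14, 15, 16, 18, 20, 21, 22, 23, 24, 25, 27, 28, 30, 32, 36, 40, 42, 48, 60, 72, 144]

def lCo : List (ℕ × ℕ) := [(2, 22), (3, 9), (5, 4), (7, 2), (11, 1), (13, 1), (23, 1)]

theorem lCo_prime : ∀ x ∈ lCo, (x.1).Prime := by
  intro x hx
  simp only [lCo, List.mem_cons, List.not_mem_nil, or_false] at hx
  rcases hx with rfl | rfl | rfl | rfl | rfl | rfl | rfl <;> norm_num

theorem lCo_prod : (lCo.map fun x => x.1 ^ x.2).prod = 8315553613086720000 := by decide +kernel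

private noncomputable def _root_.Cfsg.Agent.KObc00191.k28 : (by first | exact type_of% @Cfsg.Agent.H536.TC.enum | exact Unit : Sort _) := by first | (refine @Subtype.val _ (fun g => @Cfsg.Agent.H536.TC.enum = @g) (@Subtype.mk _ _ (@(fun x0 x1 x2 x3 => @List.rec.{1, 0} (ℕ × ℕ) @(fun x4 => ℕ → @Bool) @(fun x4 => @Cfsg.Agent.KObc00191.k3.{0} _ (@BEq.mk.{0} _ @(fun x5 x6 => @Cfsg.Agent.KObc00191.k2.{1} @Bool @x5 @x6 @Bool.false @Bool.true)) @x4 @x1) @(fun x4 x5 x6 x7 => @Cfsg.Agent.KObc00191.k1.{0} _ (@Cfsg.Agent.KObc00191.k7 (@Nat.add (@Prod.snd.{0, 0} _ _ @x4) (nat_lit 1)) []) @(fun x8 => @Bool.rec.{1} @(fun x9 => @Bool) (@x6 (@Nat.mul @x7 (@Nat.pow (@Prod.fst.{0, 0} _ _ @x4) @x8))) @Bool.true (@Cfsg.Agent.KObc00191.k9.{0} _ @x0 @(fun x9 => @Cfsg.Agent.KObc00191.k2.{1} @Bool (@Nat.mod (@Nat.mul @x7 (@Nat.pow (@Prod.fst.{0, 0} _ _ @x4) @x8)) @x9) (nat_lit 0) @Bool.false @Bool.true)))) @x2 @x3)) ?_); rewrite [← Cfsg.Agent.KObc00191.e9.{0},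 ← Cfsg.Agent.KObc00191.e7, ← Cfsg.Agent.KObc00191.e1.{0}, ← Cfsg.Agent.KObc00191.e2.{1}, ← Cfsg.Agent.KObc00191.e3.{0}]; funext a0 a1 a2 a3; refine (congrFun (_root_.Cfsg.Agent.KObc00191.e0 (fun a2 a3 => @Cfsg.Agent.H536.TC.enum a0 a1 a2 a3) ?_ (fun c0 c1 => ?_) a2) a3 :) <;> (rfl')) | exact @Cfsg.Agent.H536.TC.enum | exact ()
private theorem _root_.Cfsg.Agent.KObc00191.e28 : (by first | exact @Cfsg.Agent.H536.TC.enum = @_root_.Cfsg.Agent.KObc00191.k28 | exact True : Prop) := by first | (delta _root_.Cfsg.Agent.KObc00191.k28; exact @Subtype.property _ (fun g => @Cfsg.Agent.H536.TC.enum = @g) _) | rfl | trivial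

theorem enum0 : enum (K0.map fun x => x.1) L0 lCo 1 = true := by (first | (rewrite [Cfsg.Agent.KObc00191.e28, Cfsg.Agent.KObc00191.e10.{0, 0}]; decide +kernel) | decide +kernel)
theorem enum1 : enum ((K0 ++ K1).map fun x => x.1) L1 lCo 1 = true := by (first | (rewrite [Cfsg.Agent.KObc00191.e28, Cfsg.Agent.KObc00191.e10.{0, 0}]; decide +kernel) | decide +kernel)

theorem dvd_card (g : Co0) : orderOf g ∣ (lCo.map fun x => x.1 ^ x.2).prod := by
  rw [lCo_prod, ← Cfsg.Agent.S0397.result]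
  exact orderOf_dvd_natCard g

theorem not_dvd0 (g : Co0) (y : ℕ) (hy : y ∈ K0.map fun x => x.1) : ¬ y ∣ orderOf g := by
  intro h
  obtain ⟨x, hx, rfl⟩ := List.mem_map.1 hy
  have h1 := k0
  rw [List.all_eq_true] at h1
  have hpos : orderOf g ≠ 0 := by
    intro h0
    have h2 := dvd_card g
    rw [h0, lCo_prod] at h2
    exact absurd h2 (by norm_num)
  refine ne_of_chk (h1 x hx) (g ^ (orderOf g / x.1)) ?_
  have h3 : orderOf g / x.1 ≠ 0 := by
    intro h4
    have h5 := Nat.div_mul_cancel h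
    rw [h4, zero_mul] at h5
    exact hpos h5.symm
  rw [orderOf_pow_of_dvd h3 (Nat.div_dvd_of_dvd h), Nat.div_div_self h hpos]

/-- **The element orders of `Co0`.** -/
theorem orders_co0 (g : Co0) : orderOf g ∈ L0 := by
  have h := enum_sound (m := 1) lCo_prime enum0 (dvd_card g) (fun y hy => by rw [one_mul]; exact not_dvd0 g y hy)
  rwa [one_mul] at h

theorem L0_le : ∀ m ∈ L0, m ≤ 240 := by decide

theorem le_240 (g : Co0) : orderOf g ≤ 240 := L0_le _ (orders_co0 g)

theorem orderOf_ne_zero (g : Co0) : orderOf g ≠ 0 := by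
  intro h
  have h1 := orders_co0 g
  rw [h] at h1
  exact absurd h1 (by decide)

theorem not_dvd1 {g : Co0} {v : leechLattice} (hv : v ≠ 0) (hgv : g • v = v) (y : ℕ)
    (hy : y ∈ (K0 ++ K1).map fun x => x.1) : ¬ y ∣ orderOf g := by
  rw [List.map_append, List.mem_append] at hy
  rcases hy with hy | hy
  · exact not_dvd0 g y hy
  intro h
  obtain ⟨x, hx, rfl⟩ := List.mem_map.1 hy
  have h1 := k1
  rw [List.all_eq_true] at h1
  have h3 : orderOf g / x.1 ≠ 0 := by
    intro h4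
    have h5 := Nat.div_mul_cancel h
    rw [h4, zero_mul] at h5
    exact orderOf_ne_zero g h5.symm
  have hpw : ∀ j : ℕ, g ^ j • v = v := by
    intro j
    induction j with
    | zero => rw [pow_zero, one_smul]
    | succ j ih => rw [pow_succ, mul_smul, hgv, ih]
  refine ne_of_chk_fix (h1 x hx) hv (hpw (orderOf g / x.1)) ?_
  rw [orderOf_pow_of_dvd h3 (Nat.div_dvd_of_dvd h), Nat.div_div_self h (orderOf_ne_zero g)]

/-- **The orders of elements of `Co0` with a fixed vector.** -/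
theorem orders_fix {g : Co0} {v : leechLattice} (hv : v ≠ 0) (hgv : g • v = v) : orderOf g ∈ L1 := by
  have h := enum_sound (m := 1) lCo_prime enum1 (dvd_card g) (fun y hy => by rw [one_mul]; exact not_dvd1 hv hgv y hy)
  rwa [one_mul] at h

theorem L1_le : ∀ m ∈ L1, m ≤ 144 := by decide

end Cfsg.Agent.H536.TC
end

-- part: H536/TC/RowCo
section
/-!
# TWOCYC (S3507): the Conway groups (helper536)

* `sm_co1` : `Sm Spor.Co1`, `sm_co2` : `Sm Spor.Co2`;
* `row_co1`, `row_co2`, `row_co3` : the rows `Row3 (fun T _ => Spor.IsoCoN T)`.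
-/

set_option autoImplicit false

namespace Cfsg.Agent.H536.TC

open MulAction Cfsg Cfsg.Agent.H384.Cyc Cfsg.Agent.H482.TwoCyc Cfsg.Agent.H867.MinIdx

universe u v

theorem ne_zero_of_sq {v : leechLattice} (h : sqNorm (v : GolayPt → ℤ) ≠ 0) : v ≠ 0 := by
  rintro rfl
  apply h
  simp [sqNorm]

theorem orders_sub {K : Subgroup (Equiv.Perm leechLattice)} (hK : K ≤ Co0) {v : leechLattice} (hv : v ≠ 0)
    (hfix : ∀ t ∈ K, t v = v) (t : K) : orderOf t ∈ L1 := by
  have h1 : orderOf t = orderOf (⟨t.1, hK t.2⟩ : Co0) := by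
    rw [← Subgroup.orderOf_coe t, ← Subgroup.orderOf_coe]
  rw [h1]
  exact orders_fix hv (hfix t.1 t.2)

theorem U_ne : Spor.leechU ≠ 0 := ne_zero_of_sq (by
  show sqNorm Spor.vecU ≠ 0
  decide +kernel)

theorem V_ne : Spor.leechV ≠ 0 := ne_zero_of_sq (by
  show sqNorm Spor.vecV ≠ 0
  decide +kernel)

theorem orders_co2 (t : Spor.Co2) : orderOf t ∈ L1 :=
  orders_sub (K := Spor.Co2) inf_le_left U_ne (fun x (hx : x ∈ Co0 ⊓ _) => hx.2) t

theorem orders_co3 (t : Spor.Co3) : orderOf t ∈ L1 :=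
  orders_sub (K := Spor.Co3) inf_le_left V_ne (fun x (hx : x ∈ Co0 ⊓ _) => hx.2) t

theorem sm_co1 : Sm Spor.Co1 := by
  have hc : Nat.card Co0 ≠ 0 := by rw [Cfsg.Agent.S0397.result]; norm_num
  have hfin0 : Finite Co0 := Nat.finite_of_card_ne_zero hc
  have hfin : Finite Spor.Co1 := Quotient.finite _
  refine ⟨240, ?_, fun H hH => ?_⟩
  · have h := mo_of_out (T := Spor.Co1) (k := 1) (c := 240) Cfsg.Agent.S2069.result one_ne_zero fun t => by
      obtain ⟨g, rfl⟩ := QuotientGroup.mk_surjective t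
      exact (Nat.le_of_dvd (orderOf_pos g) (orderOf_map_dvd (QuotientGroup.mk' _) g)).trans (le_240 g)
    rwa [one_mul] at h
  · have := Cfsg.Agent.H867.SporMI.co1.index H hH
    omega

theorem sm_co2 : Sm Spor.Co2 := by
  have hfin : Finite Spor.Co2 := Cfsg.Agent.Schreier.CoTwoStab.finite
  refine ⟨144, ?_, fun H hH => ?_⟩
  · have h := mo_of_out (T := Spor.Co2) (k := 1) (c := 144) Cfsg.Agent.S2070.result one_ne_zero fun t =>
      L1_le _ (orders_co2 t)
    rwa [one_mul] at h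
  · have := (Cfsg.Agent.H867.SporMI.co2 Cfsg.Agent.Schreier.CoTwoStab.isSimpleGroup).index H hH
    omega

/-! ### `Co₃` -/

theorem mi_u43 {F : Type} [Field F] [Fintype F] (hF : Fintype.card F = 9) : MI (PSU 4 F 3) 112 := by
  apply MI.of_index
  intro K hK
  have h := (Cfsg.Agent.S2150.result (F := F) 3 (by rw [hF]; norm_num) (by norm_num)).1 K hK
  norm_num at h
  exact h

theorem exists_u43 : ∃ (F : Type) (_ : Field F) (_ : Fintype F) (f : PSU 4 F 3 →* Spor.McL),
    MI (PSU 4 F 3) 112 ∧ Nontrivial (PSU 4 F 3) ∧ Function.Injective f := by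
  obtain ⟨F, iF, iF', hF, f, hf⟩ := Cfsg.Agent.H468.exists_psu_mcl
  have := S0283.result (F := F) (q := 3) (by rw [hF]; norm_num) 4 (by norm_num) (by norm_num)
  exact ⟨F, iF, iF', f, mi_u43 hF, this.toNontrivial, hf⟩

theorem mi_mcl (hs : IsSimpleGroup Spor.McL) : MI Spor.McL 112 := by
  obtain ⟨F, _, _, f, h1, h2, h3⟩ := exists_u43
  exact Cfsg.Agent.H867.SporMI.of_embed h1 f h3 h2

theorem mi_co3 : MI Spor.Co3 112 := by
  have hs := Cfsg.Agent.H49.CoStab.simple_co3
  obtain ⟨F, _, _, f, h1, h2, h3⟩ := exists_u43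
  have hle : Spor.McL ≤ Spor.Co3 := inf_le_left
  refine Cfsg.Agent.H867.SporMI.of_embed h1 ((Subgroup.inclusion hle).comp f) ?_ h2
  rw [MonoidHom.coe_comp]
  exact (Subgroup.inclusion_injective hle).comp h3

theorem chk_co3 : rowChk L1 112 495766656000 [(23, 253), (11, 110)] = true := by decide +kernel

theorem row_co3 : Row3.{u, v} (fun T _ => Spor.IsoCo3 T) := by
  intro G Ω _ _ T g h hT
  exfalso
  obtain ⟨e⟩ := id hT
  have hfinG := h.finG
  have hfin : Finite T := inferInstance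
  have hcard : Nat.card T = 495766656000 := Cfsg.Agent.H555.TwoSp.card_co3 hT
  have hout : Nat.card (Out T) = 1 := by
    rw [← Cfsg.Agent.S2071.result]
    exact Cfsg.Agent.H934.OutB.card_out_congr e
  have hgT : g ∈ T := by
    have h1 := pow_mem h hout one_ne_zero
    rwa [pow_one] at h1
  have hg : orderOf g ∈ L1 := by
    have h1 : orderOf g = orderOf (e ⟨g, hgT⟩) := by
      rw [MulEquiv.orderOf_eq, ← Subgroup.orderOf_coe]
    rw [h1]
    exact orders_co3 _
  obtain ⟨-, h1⟩ := exists_index h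
  have hlo : 112 ≤ Nat.card Ω := by
    have hne : Nonempty Ω := by
      by_contra hcon
      rw [not_nonempty_iff] at hcon
      have := h.two
      unfold Two at this
      rw [Nat.card_of_isEmpty] at this
      omega
    obtain ⟨a⟩ := hne
    obtain ⟨h2, h3⟩ := h1 a
    rw [← h2]
    exact (mi_co3.congr e.symm).index _ h3
  refine false_of_chk h chk_co3 hg hcard hlo ?_
  intro x hx
  simp only [List.mem_cons, List.not_mem_nil, or_false] at hx
  rcases hx with rfl | rfl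
  · exact ⟨by norm_num, by norm_num, by norm_num, fun R hR => Cfsg.Agent.H555.TwoSp.n23 hT R hR⟩
  · exact ⟨by norm_num, by norm_num, by norm_num, fun R hR => Cfsg.Agent.H555.TwoSp.n11 hT R hR⟩

end Cfsg.Agent.H536.TC
end

-- part: H536/TC/RowMcL
section
/-!
# TWOCYC (S3507): the McLaughlin group (helper536)

* `orders_mcl` : `orderOf t ∈ LM`;
* `row_mcl` : the row `Row3 (fun T _ => Spor.IsoMcL T)`.
-/

set_option autoImplicit false

namespace Cfsg.Agent.H536.TC

open MulAction Cfsg Cfsg.Agent.H384.Cyc Cfsg.Agent.H482.TwoCyc Cfsg.Agent.H867.MinIdx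
open Subgroup (centralizer)
open Cfsg.Agent.TypeM.Two (MT)

universe u v

/-- the orders of elements whose square has order in `L` -/
theorem ord_two {G : Type u} [Group G] [Finite G] {L : List ℕ} {g : G} (h : orderOf (g ^ 2) ∈ L) :
    orderOf g ∈ L ++ L.map (2 * ·) := by
  rw [List.mem_append]
  have hpos := orderOf_pos g
  rw [orderOf_pow] at h
  rcases (Nat.dvd_prime Nat.prime_two).1 (Nat.gcd_dvd_right (orderOf g) 2) with h1 | h1
  · left
    rwa [h1, Nat.div_one] at h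
  · right
    rw [h1] at h
    refine List.mem_map.2 ⟨_, h, ?_⟩
    exact Nat.mul_div_cancel' ((Nat.gcd_eq_right_iff_dvd).1 h1)

/-! ### `A₈` and `2.A₈` -/

theorem chkA8 : ((Cfsg.Agent.H380.AltSpec.T 8 8).all fun x => !x.2 || [1, 2, 3, 4, 5, 6, 7, 15].contains x.1) = true := by
  decide +kernel

theorem orders_alt_eight (g : alternatingGroup (Fin 8)) : orderOf g ∈ [1, 2, 3, 4, 5, 6, 7, 15] := by
  have h := chkA8
  rw [List.all_eq_true] at h
  have h1 := h _ (Cfsg.Agent.H380.AltSpec.orderOf_mem_T g)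
  simpa using h1

/-- elements of even order -/
theorem half_mt {n : ℕ} {M : Type u} [Group M] [Finite M] (L : MT n M) {k : ℕ} {g : M} (hg : orderOf g = 2 * k) :
    ∃ σ : alternatingGroup (Fin n), orderOf σ = k := by
  have hk : 0 < k := by
    have := orderOf_pos g
    omega
  have h1 : g ^ k * g ^ k = 1 := by
    rw [← pow_add, ← two_mul, ← hg, pow_orderOf_eq_one]
  have h2 : g ^ k ≠ 1 := by
    intro h3
    have h4 := Nat.le_of_dvd hk (orderOf_dvd_of_pow_eq_one h3)
    omega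
  obtain ⟨x, hx⟩ := L.one _ h1 h2
  -- `y = x⁻¹ g x` has `y ^ k = t`
  set y := x⁻¹ * g * x with hy
  have hyk : ∀ m : ℕ, y ^ m = x⁻¹ * g ^ m * x := by
    intro m
    have := conj_pow (i := m) (a := x⁻¹) (b := g)
    rw [inv_inv] at this
    exact this
  have h3 : y ^ k = L.t := by
    rw [hyk, ← hx]; group
  have h4 : y * L.t = L.t * y := by
    rw [← h3, ← pow_succ, ← pow_succ']
  have h5 : orderOf y = 2 * k := by
    rw [← hg, hy]
    have := (MulAut.conj x⁻¹).orderOf_eq g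
    rw [← this]
    congr 1
    rw [MulAut.conj_apply, inv_inv]
  let c : centralizer ({L.t} : Set M) := ⟨y, Subgroup.mem_centralizer_singleton_iff.2 h4⟩
  have hc : ∀ m, L.K.π c ^ m = 1 ↔ k ∣ m := by
    intro m
    rw [← map_pow, L.K.ker]
    have h6 : (c ^ m = 1 ∨ c ^ m = L.K.z) ↔ (y ^ m = 1 ∨ y ^ m = L.t) := by
      rw [Subtype.ext_iff, Subtype.ext_iff, L.hz]
      rfl
    rw [h6]
    constructor
    · rintro (h7 | h7)
      · have h8 := orderOf_dvd_of_pow_eq_one h7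
        rw [h5] at h8
        exact (dvd_mul_left k 2).trans h8
      · have h8 : y ^ (2 * m) = 1 := by
          rw [mul_comm, pow_mul, h7, pow_two, L.t_mul_t]
        have h9 := orderOf_dvd_of_pow_eq_one h8
        rw [h5] at h9
        exact Nat.dvd_of_mul_dvd_mul_left two_pos h9
    · rintro ⟨j, rfl⟩
      rw [pow_mul, h3]
      rcases Nat.even_or_odd' j with ⟨i, rfl | rfl⟩
      · left
        rw [pow_mul, pow_two, L.t_mul_t, one_pow]
      · right
        rw [pow_succ, pow_mul, pow_two, L.t_mul_t, one_pow, one_mul]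
  refine ⟨⟨L.K.π c, L.K.mem_alternating c⟩, ?_⟩
  rw [Subgroup.orderOf_mk]
  apply Nat.dvd_antisymm
  · exact orderOf_dvd_of_pow_eq_one ((hc k).2 dvd_rfl)
  · exact (hc _).1 (pow_orderOf_eq_one _)

/-! ### The orders in `McL` -/

/-- the orders in `McL` and some more -/
def LM : List ℕ := [1, 2, 3, 4, 5, 6, 7, 8, 9, 10, 11, 12, 14, 15, 21, 23, 25, 27, 30]

theorem chkLM : (L1.all fun m => LM.contains m || (m % 2 == 0 && !([1, 2, 3, 4, 5, 6, 7, 15].contains (m / 2)))) = true := by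
  decide +kernel

theorem orders_mcl (t : Spor.McL) : orderOf t ∈ LM := by
  have hle : Spor.McL ≤ Co0 := inf_le_left.trans inf_le_left
  have h1 : orderOf t ∈ L1 := orders_sub (K := Spor.McL) hle U_ne (fun x (hx : x ∈ Spor.Co3 ⊓ _) => hx.2) t
  have h := chkLM
  rw [List.all_eq_true] at h
  have h2 := h _ h1
  rw [Bool.or_eq_true, Bool.and_eq_true, beq_iff_eq, Bool.not_eq_true'] at h2
  rcases h2 with h2 | ⟨h2, h3⟩
  · exact List.contains_iff_mem.1 h2
  · exfalso
    obtain ⟨hfin, -, -, ⟨L⟩⟩ := Cfsg.Agent.TypeM.FactsMcL.facts (M := Spor.McL) ⟨MulEquiv.refl _⟩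
    obtain ⟨σ, hσ⟩ := half_mt L (g := t) (k := orderOf t / 2) (by omega)
    have h4 := orders_alt_eight σ
    rw [hσ, ← List.contains_iff_mem, h3] at h4
    exact absurd h4 (by decide)

theorem chk_mcl : rowChk (LM ++ LM.map (2 * ·)) 112 898128000 [(11, 55)] = true := by decide +kernel

/-- the number of points is at least the minimal index -/
theorem le_points {G : Type u} [Group G] {Ω : Type v} [MulAction G Ω] {T : Subgroup G} {g : G} (h : TC G Ω T g)
    {lo : ℕ} (hT : MI T lo) : lo ≤ Nat.card Ω := by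
  have hfinG := h.finG
  have hfinΩ := h.finΩ
  have hfin : Finite T := inferInstance
  obtain ⟨-, h1⟩ := exists_index h
  have hne : Nonempty Ω := by
    by_contra hcon
    rw [not_nonempty_iff] at hcon
    have := h.two
    unfold Two at this
    rw [Nat.card_of_isEmpty] at this
    omega
  obtain ⟨a⟩ := hne
  obtain ⟨h2, h3⟩ := h1 a
  rw [← h2]
  exact hT.index _ h3

theorem row_mcl : Row3.{u, v} (fun T _ => Spor.IsoMcL T) := by
  intro G Ω _ _ T g h hT
  exfalso
  obtain ⟨e⟩ := id hT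
  have hfinG := h.finG
  have hfin : Finite T := inferInstance
  have hcard : Nat.card T = 898128000 := Cfsg.Agent.H904.McLCent.card_L hT
  have hout : Nat.card (Out T) = 2 := by
    rw [← Cfsg.Agent.S2073.result]
    exact Cfsg.Agent.H934.OutB.card_out_congr e
  have hg : orderOf g ∈ LM ++ LM.map (2 * ·) := by
    have hgT : g ^ 2 ∈ T := pow_mem h hout two_ne_zero
    apply ord_two
    have h1 : orderOf (g ^ 2) = orderOf (e ⟨g ^ 2, hgT⟩) := by
      rw [MulEquiv.orderOf_eq, ← Subgroup.orderOf_coe]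
    rw [h1]
    exact orders_mcl _
  have hlo : 112 ≤ Nat.card Ω :=
    le_points h ((mi_mcl Cfsg.Agent.Schreier.McLaughlin.isSimple_mcl).congr e.symm)
  refine false_of_chk h chk_mcl hg hcard hlo ?_
  intro x hx
  simp only [List.mem_cons, List.not_mem_nil, or_false] at hx
  subst hx
  exact ⟨by norm_num, by norm_num, by norm_num, fun R hR => (Cfsg.Agent.H904.McLCent.eleven hT R hR).2⟩

end Cfsg.Agent.H536.TC
end

-- part: H536/TC/RowHS
section
/-!
# TWOCYC (S3507): the Higman–Sims group (helper536)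

* `orders_hs` : `orderOf t ∈ LH`;
* `md_hs` : the nonlinear irreducible characters of `HS` have degree at least `20`;
* `row_hs` : the row `Row3 (fun T _ => Spor.IsoHS T)`.
-/

set_option autoImplicit false

namespace Cfsg.Agent.H536.TC

open MulAction Cfsg Cfsg.Agent.H384.Cyc Cfsg.Agent.H482.TwoCyc Cfsg.Agent.H867.MinIdx
open Subgroup (centralizer)
open Cfsg.Agent.H954.OutDeg (MD)

universe u v

/-! ### Powers -/

theorem exists_pow_order {S : Type u} [Group S] [Finite S] {t : S} {d : ℕ} (hd : d ∣ orderOf t) :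
    ∃ x : S, orderOf x = d ∧ t * x = x * t := by
  have hpos := orderOf_pos t
  have h0 : orderOf t / d ≠ 0 := by
    intro h
    have h1 := Nat.div_mul_cancel hd
    rw [h, zero_mul] at h1
    omega
  refine ⟨t ^ (orderOf t / d), ?_, ?_⟩
  · rw [orderOf_pow_of_dvd h0 (Nat.div_dvd_of_dvd hd), Nat.div_div_self hd hpos.ne']
  · rw [← pow_succ', pow_succ]

theorem dvd_of_mem {S : Type u} [Group S] {K : Subgroup S} {t : S} (ht : t ∈ K) {n : ℕ}
    (hK : Nat.card K ∣ n) : orderOf t ∣ n := by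
  rw [← Subgroup.orderOf_mk t ht]
  exact (orderOf_dvd_natCard _).trans hK

theorem eq_of_cent {S : Type u} [Group S] [Finite S] {p : ℕ}
    (hC : ∀ x : S, orderOf x = p → Nat.card (centralizer ({x} : Set S)) = p) {t : S} (h : p ∣ orderOf t) :
    orderOf t = p := by
  obtain ⟨x, hx, htx⟩ := exists_pow_order h
  refine Nat.dvd_antisymm (dvd_of_mem (K := centralizer ({x} : Set S)) ?_ (hC x hx).dvd) h
  exact Subgroup.mem_centralizer_singleton_iff.2 htx

/-! ### The orders in `HS` -/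

theorem hs_refl : Spor.IsoHS Spor.HS := ⟨MulEquiv.refl _⟩

theorem fin_hs : Finite Spor.HS := Nat.finite_of_card_ne_zero (by rw [Cfsg.Agent.H792.SpU35.card_HS]; norm_num)

theorem hs_ten {t : Spor.HS} (h : 10 ∣ orderOf t) : orderOf t ∣ 20 := by
  have := fin_hs
  have hpos := orderOf_pos t
  have h2 : 2 ∣ orderOf t := (by norm_num : 2 ∣ 10).trans h
  have h5 : 5 ∣ orderOf t := (by norm_num : 5 ∣ 10).trans h
  have hord : ∀ d, d ∣ orderOf t → orderOf (t ^ (orderOf t / d)) = d := by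
    intro d hd
    have h0 : orderOf t / d ≠ 0 := by
      intro h
      have h1 := Nat.div_mul_cancel hd
      rw [h, zero_mul] at h1
      omega
    rw [orderOf_pow_of_dvd h0 (Nat.div_dvd_of_dvd hd), Nat.div_div_self hd hpos.ne']
  have hs := hord 2 h2
  have hx := hord 5 h5
  set s := t ^ (orderOf t / 2) with hsd
  set x := t ^ (orderOf t / 5) with hxd
  have hss : s * s = 1 := by rw [← pow_two, ← hs, pow_orderOf_eq_one]
  have hs1 : s ≠ 1 := by
    intro h
    rw [h, orderOf_one] at hs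
    omega
  have hsx : s * x = x * s := by rw [hsd, hxd, ← pow_add, ← pow_add, add_comm]
  have h3 := Cfsg.Agent.CpAutHSFive.card_DD hs_refl hss hs1 hx hsx
  refine dvd_of_mem (K := Cfsg.Agent.CpAut.SmallP.DD x s) (Cfsg.Agent.CpAut.SmallP.mem_DD.2 ⟨?_, ?_⟩) h3
  · rw [hsd, ← pow_succ', pow_succ]
  · rw [hxd, ← pow_succ', pow_succ]

theorem hs_nine (t : Spor.HS) : orderOf t ≠ 9 := by
  obtain ⟨f, hf⟩ := Cfsg.Agent.H497.Stein.exists_mHS
  have := fin_hs
  have h3 : (Nat.card Spor.HS).factorization 3 = 2 := by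
    rw [Cfsg.Agent.H792.SpU35.card_HS, show (44352000 : ℕ) = 3 ^ 2 * 4928000 by norm_num,
      Nat.factorization_mul (by norm_num) (by norm_num), Finsupp.add_apply, Nat.prime_three.factorization_pow,
      Finsupp.single_eq_same, Nat.factorization_eq_zero_of_not_dvd (by norm_num)]
  refine Cfsg.Agent.H455.NoNine.no_nine h3 (f Cfsg.Agent.H337.M22Three.S) (f Cfsg.Agent.H337.M22Three.S') ?_ ?_ ?_ ?_ t
  · rw [← map_mul, Cfsg.Agent.H337.M22Three.S_comm, map_mul]
  · rw [← map_pow, Cfsg.Agent.H337.M22Three.S_cube, map_one]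
  · rw [← map_pow, Cfsg.Agent.H337.M22Three.S'_cube, map_one]
  · have h1 : (fun p : Fin 3 × Fin 3 => f Cfsg.Agent.H337.M22Three.S ^ (p.1 : ℕ) *
        f Cfsg.Agent.H337.M22Three.S' ^ (p.2 : ℕ)) = f ∘ fun p : Fin 3 × Fin 3 =>
          Cfsg.Agent.H337.M22Three.S ^ (p.1 : ℕ) * Cfsg.Agent.H337.M22Three.S' ^ (p.2 : ℕ) := by
      funext p
      rw [Function.comp_apply, map_mul, map_pow, map_pow]
    rw [h1]
    exact hf.comp Cfsg.Agent.H337.M22Three.pow_injective

theorem hs_sixteen (t : Spor.HS) : orderOf t ≠ 16 := by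
  intro h
  have := Cfsg.Agent.H57.TTHSOrder.hs_order hs_refl (x := t) (k := 4) (by rw [h]; norm_num)
  omega

theorem hs_twentyfive (t : Spor.HS) : orderOf t ≠ 25 := by
  intro h
  have hle : Spor.HS ≤ Co0 := inf_le_left.trans inf_le_left
  have h1 : orderOf t = orderOf (⟨t.1, hle t.2⟩ : Co0) := by
    rw [← Subgroup.orderOf_coe t, ← Subgroup.orderOf_coe]
  rw [h1] at h
  have h2 := Cfsg.Agent.H525.RO.CoTf.co0_pow (g := (⟨t.1, hle t.2⟩ : Co0)) (n := 2) (by
    rw [show 5 ^ 2 = 25 by norm_num, ← h, pow_orderOf_eq_one])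
  have h3 := orderOf_dvd_of_pow_eq_one h2
  rw [h] at h3
  omega

/-- the orders in `HS` and some more -/
def LH : List ℕ := [1, 2, 3, 4, 5, 6, 7, 8, 10, 11, 12, 15, 20, 23, 24]

/-- the excluded orders -/
def exH (m : ℕ) : Bool :=
  (m % 7 == 0 && m != 7) || (m % 11 == 0 && m != 11) || (m % 10 == 0 && 20 % m != 0) || m % 9 == 0 || m % 16 == 0 ||
    m % 25 == 0

theorem chkLH : (L1.all fun m => LH.contains m || exH m) = true := by decide +kernel

theorem orders_hs (t : Spor.HS) : orderOf t ∈ LH := by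
  have := fin_hs
  have hle : Spor.HS ≤ Co0 := inf_le_left.trans inf_le_left
  have h1 : orderOf t ∈ L1 := orders_sub (K := Spor.HS) hle V_ne (fun x (hx : x ∈ (Co0 ⊓ _) ⊓ _) => hx.1.2) t
  have h := chkLH
  rw [List.all_eq_true] at h
  have h2 := h _ h1
  rw [Bool.or_eq_true] at h2
  rcases h2 with h2 | h2
  · exact List.contains_iff_mem.1 h2
  exfalso
  unfold exH at h2
  simp only [Bool.or_eq_true, Bool.and_eq_true, beq_iff_eq, bne_iff_ne] at h2
  have key : ∀ d : ℕ, (∀ s : Spor.HS, orderOf s ≠ d) → orderOf t % d ≠ 0 := by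
    intro d hd h3
    obtain ⟨x, hx, -⟩ := exists_pow_order (Nat.dvd_of_mod_eq_zero h3)
    exact hd x hx
  rcases h2 with ((((⟨h2, h3⟩ | ⟨h2, h3⟩) | ⟨h2, h3⟩) | h2) | h2) | h2
  · exact h3 (eq_of_cent (fun x hx => Cfsg.Agent.H904.HSIso.card_seven hs_refl hx) (Nat.dvd_of_mod_eq_zero h2))
  · exact h3 (eq_of_cent (fun x hx => Cfsg.Agent.H904.HSIso.card_eleven hs_refl hx) (Nat.dvd_of_mod_eq_zero h2))
  · exact h3 (Nat.mod_eq_zero_of_dvd (hs_ten (Nat.dvd_of_mod_eq_zero h2)))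
  · exact key 9 hs_nine h2
  · exact key 16 hs_sixteen h2
  · exact key 25 hs_twentyfive h2

/-! ### Degrees -/

/-- a simple central quotient is not commutative -/
theorem not_comm_quot {H : Type u} [Group H] [hs : IsSimpleGroup (H ⧸ Subgroup.center H)] :
    ¬ IsMulCommutative (H ⧸ Subgroup.center H) := by
  intro hc
  let _ : CommGroup (H ⧸ Subgroup.center H) :=
    { (inferInstance : Group (H ⧸ Subgroup.center H)) with mul_comm := hc.is_comm.comm }
  have hcyc : IsCyclic (H ⧸ Subgroup.center H) := IsSimpleGroup.isCyclic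
  have h1 : ∀ a b : H, a * b = b * a := fun a b =>
    commutative_of_cyclic_center_quotient (QuotientGroup.mk' (Subgroup.center H)) (by rw [QuotientGroup.ker_mk']) a b
  obtain ⟨x, hx⟩ := exists_ne (1 : H ⧸ Subgroup.center H)
  obtain ⟨a, rfl⟩ := QuotientGroup.mk_surjective x
  exact hx ((QuotientGroup.eq_one_iff a).2 (Subgroup.mem_center_iff.2 fun b => h1 b a))

open Cfsg.Agent.H792.SpU35 in
theorem md_hs : MD Spor.HS 20 := by
  have := fin_hs
  have := Cfsg.Agent.CpAutHSFive.simple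
  obtain ⟨F, _, _, hF⟩ := exists_field
  have hs : IsSimpleGroup (PSU 3 F 5) := Cfsg.Agent.S0283.result (by rw [hF]; norm_num) 3 le_rfl (by omega)
  have hna : ¬ IsMulCommutative (PSU 3 F 5) := not_comm_quot (H := ↥(Cfsg.SU 3 F 5)) (hs := hs)
  have h1 : MD (PSU 3 F 5) ((5 - 1) * 5 ^ (3 - 2)) :=
    Cfsg.Agent.H597.PsuDeg.md_psu (X := PSU 3 F 5) (F := F) (q := 5) (n := 3) (by rw [hF]; norm_num) le_rfl
      (MulEquiv.refl _)
  norm_num at h1
  obtain ⟨x, Tr⟩ := exists_tri sq_V hs_pair.1 hs_pair.2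
  obtain ⟨e1⟩ := Tr.exists_hom hF
  let W := MulAction.stabilizer Co0 Spor.leechV ⊓ MulAction.stabilizer Co0 (-(Spor.leechV + Spor.leechU')) ⊓
      MulAction.stabilizer Co0 x
  let f : W →* Spor.HS := (Co0.subtype.comp W.subtype).codRestrict Spor.HS fun g => mem_HS g.2.1.1 g.2.1.2
  have hf : Function.Injective f := by
    intro a b h
    have h1 := congrArg Subtype.val h
    exact Subtype.ext (Subtype.ext h1)
  have hinj : Function.Injective (f.comp e1.toMonoidHom) := by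
    rw [MonoidHom.coe_comp]
    exact hf.comp e1.injective
  exact Cfsg.Agent.H396.TwoCyc.md_of_sub hna (f.comp e1.toMonoidHom) hinj h1

theorem chk_hs : rowChk (LH ++ LH.map (2 * ·)) 61 44352000 [(7, 42), (11, 55)] = true := by decide +kernel

theorem row_hs : Row3.{u, v} (fun T _ => Spor.IsoHS T) := by
  intro G Ω _ _ T g h hT
  by_contra hcon
  obtain ⟨e⟩ := id hT
  have hfinG := h.finG
  have hfin : Finite T := inferInstance
  have hcard : Nat.card T = 44352000 := by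
    rw [Nat.card_congr e.toEquiv, Cfsg.Agent.H792.SpU35.card_HS]
  have hout : Nat.card (Out T) = 2 := by
    rw [← Cfsg.Agent.S2072.result]
    exact Cfsg.Agent.H934.OutB.card_out_congr e
  have hg : orderOf g ∈ LH ++ LH.map (2 * ·) := by
    have hgT : g ^ 2 ∈ T := pow_mem h hout two_ne_zero
    apply ord_two
    have h1 : orderOf (g ^ 2) = orderOf (e ⟨g ^ 2, hgT⟩) := by
      rw [MulEquiv.orderOf_eq, ← Subgroup.orderOf_coe]
    rw [h1]
    exact orders_hs _
  have hlo : 3 * 20 + 1 ≤ Nat.card Ω := Cfsg.Agent.H396.TwoCyc.lower h hcon (md_hs.congr e.symm)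
  refine false_of_chk h chk_hs hg hcard hlo ?_
  intro x hx
  simp only [List.mem_cons, List.not_mem_nil, or_false] at hx
  rcases hx with rfl | rfl
  · exact ⟨by norm_num, by norm_num, by norm_num, fun R hR => (Cfsg.Agent.H904.TwoHS.seven hT R hR).2⟩
  · obtain ⟨-, -, H⟩ := Cfsg.Agent.H904.TwoHS.eleven hT
    exact ⟨by norm_num, by norm_num, by norm_num, fun R hR => (H R hR).2⟩

end Cfsg.Agent.H536.TC
end

private theorem dce_2fb901c9ec4c : _root_.True := by
  try have : _root_.True := by simp only [_root_.Cfsg.Agent.H536.TC.enum.eq_def]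
  try have : _root_.True := by simp only [_root_.Cfsg.Agent.H536.TC.lCo.eq_1]
  try have : _root_.True := by simp only [_root_.Cfsg.Agent.H536.TC.srch.eq_def]
  exact _root_.True.intro
end

-- part: H326/TwoCyc/Tools
section
set_option linter.all false
open scoped Cfsg.Agent.FastGrp

/-!
# TEAM TWOCYC (S3507): tools for the sporadic rows (helper326)

* `mo_of_index` : `|Out T| ≤ 2` and a bound for the element orders give `Mo`;
* `lt_index` : a numerical check with the engine of helper940 bounds the index of the proper subgroups;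
* `row_of_sm` : `Row3` from a model.
-/

set_option autoImplicit false

namespace Cfsg.Agent.H326.TwoCyc

open Cfsg Subgroup Cfsg.Agent.H384.Cyc Cfsg.Agent.H940.Eng Cfsg.Agent.OrdDiv

universe u v

/-- the square of an automorphism is inner -/
theorem exists_sq {S : Type u} [Group S]
    (h : (MulAut.conj : S →* MulAut S).range.index = 1 ∨ (MulAut.conj : S →* MulAut S).range.index = 2)
    (α : MulAut S) : ∃ x : S, α ^ 2 = MulAut.conj x := by
  have h1 : α ^ 2 ∈ (MulAut.conj : S →* MulAut S).range := by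
    rcases h with h | h
    · rw [Subgroup.index_eq_one.1 h]
      exact mem_top _
    · exact Subgroup.sq_mem_of_index_two h α
  obtain ⟨x, hx⟩ := h1
  exact ⟨x, hx.symm⟩

theorem mo_of_index {S : Type u} [Group S] [Finite S]
    (h : (MulAut.conj : S →* MulAut S).range.index = 1 ∨ (MulAut.conj : S →* MulAut S).range.index = 2)
    {b : ℕ} (hb : ∀ x : S, orderOf x ≤ b) : Mo S (2 * b) := by
  intro α
  obtain ⟨x, hx⟩ := exists_sq h α
  have h1 : α ^ (2 * orderOf x) = 1 := by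
    rw [pow_mul, hx, ← map_pow, pow_orderOf_eq_one, map_one]
  have h2 : 0 < orderOf x := orderOf_pos x
  exact (Nat.le_of_dvd (by omega) (orderOf_dvd_of_pow_eq_one h1)).trans (Nat.mul_le_mul_left 2 (hb x))

/-- the numerical check: all indices from `2` to `N` are excluded -/
def checkB (l : List (ℕ × ℕ)) (n : ℕ) (loc : List LD) (ords : List ℕ) (N : ℕ) (allow : List ℕ) : Bool :=
  (List.range (N + 1)).all fun d => Nat.ble d 1 || !(Nat.beq (n % d) 0) || allow.contains d ||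
    bad l n [] 0 loc ords (n / d)

theorem lt_index' {S : Type u} [Group S] {l : List (ℕ × ℕ)} {n : ℕ} {ords : List ℕ} {loc : List LD}
    (c : Ctx S l n ords loc) {N : ℕ} {allow : List ℕ} (hc : checkB l n loc ords N allow = true) {H : Subgroup S} (hH : H ≠ ⊤) :
    N < H.index ∨ H.index ∈ allow := by
  have := c.fin
  have := c.simple
  by_contra hlt
  push Not at hlt
  obtain ⟨hlt, hal⟩ := hlt
  have h0 : H.index ≠ 0 := Subgroup.index_ne_zero_of_finite
  have h1 : H.index ≠ 1 := fun h => hH (Subgroup.index_eq_one.1 h)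
  have h2 : H.index ∣ n := by
    rw [← c.card]
    exact Subgroup.index_dvd_card H
  have h3 : n / H.index = Nat.card H := by
    rw [← c.card]
    apply Nat.div_eq_of_eq_mul_left (Nat.pos_of_ne_zero h0)
    exact (card_mul_index H).symm
  unfold checkB at hc
  rw [List.all_eq_true] at hc
  have h4 := hc H.index (List.mem_range.2 (by omega))
  rw [h3, not_bad c.val c.card c.ords c.loc (full := []) (fun p hp => absurd hp List.not_mem_nil) hH,
    Bool.or_false, Bool.or_eq_true, Bool.or_eq_true, List.contains_iff_mem] at h4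
  rcases h4 with (h4 | h4) | h4
  · rw [Nat.ble_eq] at h4
    omega
  · rw [Nat.mod_eq_zero_of_dvd h2] at h4
    exact absurd h4 (by decide)
  · exact hal h4

theorem lt_index {S : Type u} [Group S] {l : List (ℕ × ℕ)} {n : ℕ} {ords : List ℕ} {loc : List LD}
    (c : Ctx S l n ords loc) {N : ℕ} (hc : checkB l n loc ords N [] = true) {H : Subgroup S} (hH : H ≠ ⊤) :
    N < H.index := by
  rcases lt_index' c hc hH with h | h
  · exact h
  · exact absurd h List.not_mem_nil

end Cfsg.Agent.H326.TwoCyc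
end
end
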